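import Groth.Agent.BunMod.K977.Root
import Groth.Agent.DefT.K569.VBThm
import Groth.Agent.Krr.H487.PullExt
import Groth.Agent.PicF.K248.Basic
import Groth.Agent.Dcoh.MonPull292

/-!
# Lifting vector bundles over small extensions, with fixed determinant

`A' → A` surjective with kernel killed by the maximal ideal of the local ring `A'`, `T` over `A'` flat and separated,
`P = T ⊗ A`, `Z` the closed fibre, `H²(Z, -) = 0`.

* `exists_lift`: every finite locally free module on `P` lifts to `T`;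
* `exists_lift_det`: if moreover the rank `r` is invertible and `det E = L|_P`, there is a lift with `det E' = L`.
-/

set_option autoImplicit false
universe u

open CategoryTheory CategoryTheory.Limits AlgebraicGeometry Opposite TopologicalSpace

namespace K977.Lift

open Groth.Agent Groth.Agent.Grpsch Groth.Agent.Grpsch.CubeData Groth.Agent.Fdesc.LocGen
open Groth.Agent.FormalB.ModPowAff K695.SqZero K569.DefT.VBMain

section Tens

open MonoidalCategory
open scoped Groth.Agent.Dcoh.MonCat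

variable {X Y : Scheme.{u}} (f : X ⟶ Y)

/-- Pull-back commutes with tensor products. -/
noncomputable def pullTens (M N : Y.Modules) :
    (Scheme.Modules.pullback f).obj (CohB1.tensorMod M N) ≅
      CohB1.tensorMod ((Scheme.Modules.pullback f).obj M) ((Scheme.Modules.pullback f).obj N) :=
  letI := Groth.Agent.Dcoh.MonPull.monPull f
  (Functor.Monoidal.μIso (Scheme.Modules.pullback f) M N).symm

/-- Pull-back of the structure sheaf. -/
noncomputable def pullUnit :
    (Scheme.Modules.pullback f).obj (Coh.structureModule Y) ≅ Coh.structureModule X :=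
  letI := Groth.Agent.Dcoh.MonPull.monPull f
  (Functor.Monoidal.εIso (Scheme.Modules.pullback f)).symm

/-- Tensor product of isomorphisms. -/
noncomputable def tensIso {M M' N N' : X.Modules} (a : M ≅ M') (b : N ≅ N') :
    CohB1.tensorMod M N ≅ CohB1.tensorMod M' N' :=
  MonoidalCategory.tensorIso a b

end Tens

/-- The rank is determined on a surjective pull-back. -/
theorem rank_of_pullback {P T : Scheme.{u}} (π : P ⟶ T) [Surjective π] {m : ℕ} {N : T.Modules}
    (hN : FlatMod.IsFinLocFree N)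
    (h : FlatMod.IsFinLocFreeOfRank m ((Scheme.Modules.pullback π).obj N)) :
    FlatMod.IsFinLocFreeOfRank m N := by
  intro t
  obtain ⟨U, n, ht, ⟨e⟩⟩ := hN t
  refine ⟨U, ht, ?_⟩
  obtain ⟨x, rfl⟩ := Surjective.surj (f := π) t
  obtain ⟨W, hxW, ⟨e'⟩⟩ := h x
  have hn : n = m := by
    let V : P.Opens := W ⊓ π ⁻¹ᵁ U
    have hx : x ∈ V := ⟨hxW, ht⟩
    obtain ⟨e₁⟩ := K248.Basic.pull_free (V.ι ≫ π) U (by
      rintro _ ⟨v, rfl⟩
      rw [Scheme.Hom.comp_apply]
      exact v.2.2) e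
    obtain ⟨e₂⟩ := K248.Basic.pull_free V.ι W (by
      rintro _ ⟨v, rfl⟩
      exact v.2.1) e'
    exact PerfB.FreeRank.rank_eq (⟨x, hx⟩ : V)
      (e₁.symm ≪≫ (Scheme.Modules.pullbackComp V.ι π).symm.app N ≪≫ e₂)
  subst hn
  exact ⟨e⟩

/-- A closed immersion with ideal of square zero is surjective. -/
theorem surjective_of_sq {P T : Scheme.{u}} (j : P ⟶ T) [IsClosedImmersion j] (hj : j.ker ^ 2 = ⊥) : Surjective j := by
  refine ⟨fun x => ?_⟩
  have h1 : (j.ker.support : Set T) = Set.univ := by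
    rw [← Scheme.IdealSheafData.support_pow j.ker 2 two_ne_zero, hj]; rfl
  have h2 : closure (Set.range j) = Set.univ := by
    rw [← Scheme.Hom.support_ker]; exact h1
  have h3 : Set.range j = Set.univ := by
    rw [← h2, IsClosed.closure_eq (j.isClosedEmbedding.isClosed_range)]
  exact h3.ge (Set.mem_univ x)

variable {A' A κ : Type u} [CommRing A'] [IsLocalRing A'] [IsNoetherianRing A'] [CommRing A] [Field κ]
  (φ : A' →+* A) (ρ : A →+* κ)

omit [IsNoetherianRing A'] in
theorem ker_comp (hφ : Function.Surjective φ) (hρ : Function.Surjective ρ) :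
    RingHom.ker (ρ.comp φ) = IsLocalRing.maximalIdeal A' := by
  have : (RingHom.ker (ρ.comp φ)).IsMaximal := RingHom.ker_isMaximal_of_surjective _ (hρ.comp hφ)
  exact IsLocalRing.eq_maximalIdeal this

variable {T P Z : Scheme.{u}} [T.Over (Spec (CommRingCat.of A'))]
  {j : P ⟶ T} {qP : P ⟶ Spec (CommRingCat.of A)} {i : Z ⟶ P} {qZ : Z ⟶ Spec (CommRingCat.of κ)}

theorem sq_eq_bot [Nontrivial A] (hφ : Function.Surjective φ) (hm : IsLocalRing.maximalIdeal A' * RingHom.ker φ = ⊥)
    (hP : IsPullback j qP (T ↘ Spec (CommRingCat.of A')) (Spec.map (CommRingCat.ofHom φ))) : j.ker ^ 2 = ⊥ := by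
  have : IsClosedImmersion (Spec.map (CommRingCat.ofHom φ)) := IsClosedImmersion.spec_of_surjective _ hφ
  ext U : 2
  rw [Scheme.IdealSheafData.ideal_pow, Pi.pow_apply, ideal_ker φ hP U, ← Ideal.map_pow]
  have h : RingHom.ker φ ^ 2 = ⊥ := by
    rw [eq_bot_iff, ← hm, pow_two]
    exact Ideal.mul_mono_left (IsLocalRing.le_maximalIdeal (RingHom.ker_ne_top φ))
  rw [h, Ideal.map_bot]
  rfl

/-- **Lifting vector bundles.** -/
theorem exists_lift (hφ : Function.Surjective φ) (hρ : Function.Surjective ρ)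
    (hm : IsLocalRing.maximalIdeal A' * RingHom.ker φ = ⊥) (k : Type u) [Field k] [Algebra k A']
    [Flat (T ↘ Spec (CommRingCat.of A'))] [T.IsSeparated]
    (hP : IsPullback j qP (T ↘ Spec (CommRingCat.of A')) (Spec.map (CommRingCat.ofHom φ)))
    (hZ : IsPullback i qZ qP (Spec.map (CommRingCat.ofHom ρ)))
    (h2 : ∀ G : Z.Modules, Subsingleton (Coh.HH Z G 2)) (E : P.Modules) (hE : FlatMod.IsFinLocFree E) :
    ∃ E' : T.Modules, FlatMod.IsFinLocFree E' ∧ Nonempty ((Scheme.Modules.pullback j).obj E' ≅ E) := by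
  have hnt : Nontrivial A := by
    by_contra h
    rw [not_nontrivial_iff_subsingleton] at h
    exact one_ne_zero (α := κ) (by rw [← map_one ρ, Subsingleton.elim (1 : A) 0, map_zero])
  have c1 : IsClosedImmersion (Spec.map (CommRingCat.ofHom φ)) := IsClosedImmersion.spec_of_surjective _ hφ
  have c2 : IsClosedImmersion (Spec.map (CommRingCat.ofHom ρ)) := IsClosedImmersion.spec_of_surjective _ hρ
  have c3 : IsClosedImmersion (Spec.map (CommRingCat.ofHom (ρ.comp φ))) :=
    IsClosedImmersion.spec_of_surjective _ (hρ.comp hφ)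
  have hj : IsClosedImmersion j := MorphismProperty.of_isPullback hP.flip c1
  have hi : IsClosedImmersion i := MorphismProperty.of_isPullback hZ.flip c2
  have hZT : IsPullback (i ≫ j) qZ (T ↘ Spec (CommRingCat.of A')) (Spec.map (CommRingCat.ofHom (ρ.comp φ))) := by
    have h := (hZ.flip.paste_vert hP.flip).flip
    rw [CommRingCat.ofHom_comp, Spec.map_comp]
    exact h
  have hij : IsClosedImmersion (i ≫ j) := inferInstance
  -- `P ≅ V(K O_T)`
  have h0 : j.ker.subschemeι.ker = j.ker := Scheme.IdealSheafData.ker_subschemeι _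
  let e₀ : P ⟶ j.ker.subscheme := IsClosedImmersion.lift j.ker.subschemeι j h0.le
  have he₀ : IsIso e₀ := IsClosedImmersion.isIso_lift _ _ h0
  let e : P ≅ j.ker.subscheme := asIso e₀
  have he : e.hom ≫ j.ker.subschemeι = j := IsClosedImmersion.lift_fac _ _ _
  have hExt := K569.DefT.VBThm.hasExt j.ker.subscheme
  let E₀ := (Scheme.Modules.pullback e.inv).obj E
  have hE₀ : FlatMod.IsFinLocFree E₀ := PerfC.PullRestrict.isFinLocFree_pullback e.inv hE
  have hi₁ : (i ≫ e.hom) ≫ j.ker.subschemeι = i ≫ j := by rw [Category.assoc, he]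
  let F₀ := (Scheme.Modules.pullback (i ≫ e.hom)).obj E₀
  have hsh : DCoh.HasSheafHom F₀ := Groth.Agent.Sga2.PnHomAdj.hasSheafHom _
  have hv := K569.DefT.VBLift.ext_vanish k (IsLocalRing.maximalIdeal A') (RingHom.ker φ) hm
    (IsNoetherian.noetherian _) j.ker (fun U => ideal_ker φ hP U) (i ≫ j)
    (fun U => by rw [ideal_ker (ρ.comp φ) hZT U, ker_comp φ ρ hφ hρ]) (i ≫ e.hom) hi₁ E₀ hE₀ E₀ F₀
    (Iso.refl _) (Iso.refl _) 2 (h2 _)
  obtain ⟨F', hF', ⟨w⟩⟩ := K695.DeformFin.exists_deformation (sq_eq_bot φ hφ hm hP) hE₀ hv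
  refine ⟨F', hF', ⟨(Scheme.Modules.pullbackCongr he).symm.app F' ≪≫
    (Scheme.Modules.pullbackComp e.hom _).symm.app F' ≪≫ (Scheme.Modules.pullback e.hom).mapIso w ≪≫
    (Scheme.Modules.pullbackComp e.hom e.inv).app E ≪≫
    (Scheme.Modules.pullbackCongr e.hom_inv_id).app E ≪≫ (Scheme.Modules.pullbackId _).app E⟩⟩

/-- **Lifting vector bundles with fixed determinant.** -/
theorem exists_lift_det (hφ : Function.Surjective φ) (hρ : Function.Surjective ρ)
    (hm : IsLocalRing.maximalIdeal A' * RingHom.ker φ = ⊥) (k : Type u) [Field k] [Algebra k A']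
    [Flat (T ↘ Spec (CommRingCat.of A'))] [T.IsSeparated]
    (hP : IsPullback j qP (T ↘ Spec (CommRingCat.of A')) (Spec.map (CommRingCat.ofHom φ)))
    (hZ : IsPullback i qZ qP (Spec.map (CommRingCat.ofHom ρ)))
    (h2 : ∀ G : Z.Modules, Subsingleton (Coh.HH Z G 2)) (r : ℕ) (hr : IsUnit (r : Γ(T, ⊤)))
    (L : T.Modules) (hL : PicF.IsInvertible L) (E : P.Modules) (hE : FlatMod.IsFinLocFreeOfRank r E)
    (D : P.Modules) (hD : ExtPow.IsExtPow r E D) (hDL : Nonempty ((Scheme.Modules.pullback j).obj L ≅ D)) :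
    ∃ E' : T.Modules, FlatMod.IsFinLocFreeOfRank r E' ∧ Nonempty ((Scheme.Modules.pullback j).obj E' ≅ E) ∧
      ∃ D' : T.Modules, ExtPow.IsExtPow r E' D' ∧ Nonempty (L ≅ D') := by
  obtain ⟨E₁, hE₁, ⟨e₁⟩⟩ := exists_lift φ ρ hφ hρ hm k hP hZ h2 E (Krr.H487.KerRank.isFinLocFree_of_rank hE)
  have hnt : Nontrivial A := by
    by_contra h
    rw [not_nontrivial_iff_subsingleton] at h
    exact one_ne_zero (α := κ) (by rw [← map_one ρ, Subsingleton.elim (1 : A) 0, map_zero])
  have c1 : IsClosedImmersion (Spec.map (CommRingCat.ofHom φ)) := IsClosedImmersion.spec_of_surjective _ hφ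
  have hj : IsClosedImmersion j := MorphismProperty.of_isPullback hP.flip c1
  have hsq := sq_eq_bot φ hφ hm hP
  have hsur := surjective_of_sq j hsq
  have hE₁r : FlatMod.IsFinLocFreeOfRank r E₁ :=
    rank_of_pullback j hE₁ (Krr.H487.KerRank.isFinLocFreeOfRank_of_iso e₁.symm hE)
  -- the determinant of the lift
  obtain ⟨D₁, -, hD₁⟩ := Krr.H495.ExtExist.exists_isExtPow r E₁ hE₁
  have hD₁i := K451.DetMat.isInvertible_of_isExtPow hE₁r hD₁
  have hDi := K451.DetMat.isInvertible_of_isExtPow hE hD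
  obtain ⟨eL⟩ := hDL
  have hpull : PicGrp.pull j (PicGrp.mk D₁ hD₁i) = PicGrp.mk D hDi := by
    rw [PicGrp.pull_mk, PicGrp.mk_eq_iff]
    exact Sga67.TensorOps.nonempty_iso_of_isExtPow e₁ (Krr.H487.PullExt.isExtPow_pullback j hE₁ hD₁) hD
  have hpullL : PicGrp.pull j (PicGrp.mk L hL) = PicGrp.mk D hDi := by
    rw [PicGrp.pull_mk, PicGrp.mk_eq_iff]
    exact ⟨eL⟩
  obtain ⟨c', hc1, hc2⟩ := K977.Root.exists_root j hsq r hr (PicGrp.mk L hL * (PicGrp.mk D₁ hD₁i)⁻¹) (by
    rw [map_mul, map_inv, hpull, hpullL, mul_inv_cancel])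
  obtain ⟨M, hM, rfl⟩ := PicGrp.exists_mk c'
  rw [PicGrp.pull_mk, PicGrp.mk_eq_one_iff] at hc1
  obtain ⟨eM⟩ := hc1
  have hMr : FlatMod.IsFinLocFreeOfRank 1 M := Ega2.QCohLocal.isFinLocFreeOfRank_one_iff.2 hM
  have hE' : FlatMod.IsFinLocFreeOfRank r (CohB1.tensorMod E₁ M) := by
    have := Krr.H487.KerRank.isFinLocFreeOfRank_tensor hE₁r hMr
    rwa [mul_one] at this
  obtain ⟨D', -, hD'⟩ := Krr.H495.ExtExist.exists_isExtPow r (CohB1.tensorMod E₁ M)
    (Krr.H487.KerRank.isFinLocFree_of_rank hE')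
  have hD'i := K451.DetMat.isInvertible_of_isExtPow hE' hD'
  refine ⟨CohB1.tensorMod E₁ M, hE', ?_, D', hD', ?_⟩
  · exact ⟨pullTens j E₁ M ≪≫ tensIso e₁ eM ≪≫ Ega2.Tens.runit E⟩
  · rw [← PicGrp.mk_eq_iff hL hD'i]
    have h3 := K451.DetMat.mk_det_tensor (r := r) (s := 1) hE₁r hMr hD₁ (Sga67.TensorOps.isExtPow_one M)
      (D'' := D') (by rw [mul_one]; exact hD') hD₁i hM hD'i
    rw [h3, pow_one, hc2, mul_comm, inv_mul_cancel_right]

end K977.Lift
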