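import Groth.Agent.BunMod.K977.ZSmooth
import Groth.Agent.BunMod.K977.Lift
import Groth.Agent.S0458
import Groth.Agent.Krr.H482.PullLambda
import Mathlib.RingTheory.Jacobson.Ring

/-!
# Admissible families lift over small extensions

`uss`: `SmallLift k X (ussOK r d)`; `ussDet`: `SmallLift k X (ussDetOK r L)` in characteristic zero.
-/

set_option autoImplicit false
universe u

open CategoryTheory CategoryTheory.Limits AlgebraicGeometry TopologicalSpace

namespace K977.Adm

open K140.BM K977.Fam K977.ZSmooth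

variable {k : Type u} [Field k] [IsAlgClosed k]

/-- The residue field of a local algebra of finite type over `k` is `k`. -/
theorem isIso_of_field {κ : Type u} [Field κ] (s : Spec (CommRingCat.of κ) ⟶ B0 k) [LocallyOfFiniteType s] :
    IsIso s := by
  obtain ⟨ψ, rfl⟩ : ∃ ψ : CommRingCat.of k ⟶ CommRingCat.of κ, Spec.map ψ = s := ⟨Spec.preimage s, Spec.map_preimage s⟩
  have h1 : ψ.hom.FiniteType := (HasRingHomProperty.Spec_iff (P := @LocallyOfFiniteType)).1 inferInstance
  algebraize [ψ.hom]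
  have h2 : Module.Finite k κ := finite_of_finite_type_of_isJacobsonRing k κ
  have h3 : Function.Bijective ψ.hom := IsAlgClosed.algebraMap_bijective_of_isIntegral (k := k) (K := κ)
  have h4 : IsIso ψ := by
    have : ψ = (RingEquiv.ofBijective ψ.hom h3).toCommRingCatIso.hom := rfl
    rw [this]
    infer_instance
  infer_instance

variable (k) (X : Scheme.{u}) [X.Over (Spec (CommRingCat.of k))]

/-- No second cohomology on the closed fibre. -/
theorem subsingleton_H2 [IsProper (X ↘ Spec (CommRingCat.of k))] (hdim : topologicalKrullDim X ≤ 1)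
    {κ : Type u} [Field κ] (s : Spec (CommRingCat.of κ) ⟶ B0 k) [LocallyOfFiniteType s]
    (G : (PicF.XT (st k X) (tpt s)).Modules) : Subsingleton (Coh.HH _ G 2) := by
  have h1 : IsIso s := isIso_of_field s
  have h2 : IsIso (pullback.fst (st k X) (tpt s).hom) := inferInstanceAs (IsIso (pullback.fst (st k X) s))
  have : IsLocallyNoetherian X := LocallyOfFiniteType.isLocallyNoetherian (X ↘ Spec (CommRingCat.of k))
  have : IsLocallyNoetherian (PicF.XT (st k X) (tpt s)) :=
    LocallyOfFiniteType.isLocallyNoetherian (pullback.fst (st k X) (tpt s).hom)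
  have hc : CompactSpace X := QuasiCompact.compactSpace_of_compactSpace (X ↘ Spec (CommRingCat.of k))
  have hh := Scheme.homeoOfIso (asIso (pullback.fst (st k X) (tpt s).hom))
  have : CompactSpace (PicF.XT (st k X) (tpt s)) := hh.symm.compactSpace
  have : IsNoetherian (PicF.XT (st k X) (tpt s)) := {}
  have : NoetherianSpace ((PicF.XT (st k X) (tpt s)).toTopCat) :=
    inferInstanceAs (NoetherianSpace (PicF.XT (st k X) (tpt s)))
  have hd : topologicalKrullDim (PicF.XT (st k X) (tpt s)) ≤ (1 : ℕ) := by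
    rw [IsHomeomorph.topologicalKrullDim_eq _ hh.isHomeomorph]
    exact hdim
  exact Groth.Agent.S0458.result (X := (PicF.XT (st k X) (tpt s)).toTopCat) 1 hd (Coh.toAb G) 2 (by omega)

section

variable {k X}

theorem isNilpotent_of_small {B B' : Type u} [CommRing B] [CommRing B'] [Nontrivial B] [IsLocalRing B'] (φ : B' →+* B)
    (hm : IsLocalRing.maximalIdeal B' * RingHom.ker φ = ⊥) (x : B') (hx : φ x = 0) : IsNilpotent x := by
  refine ⟨2, ?_⟩
  have h1 : x ∈ RingHom.ker φ := hx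
  have h2 : x ∈ IsLocalRing.maximalIdeal B' := IsLocalRing.le_maximalIdeal (RingHom.ker_ne_top φ) h1
  have h3 := Ideal.mul_mem_mul h2 h1
  rw [hm, Ideal.mem_bot] at h3
  rw [pow_two, h3]

end

/-- **Families of semistable bundles lift over small extensions.** -/
theorem uss [IsProper (X ↘ Spec (CommRingCat.of k))] [Smooth (X ↘ Spec (CommRingCat.of k))]
    (hdim : topologicalKrullDim X ≤ 1) (r : ℕ) (d : ℤ) : SmallLift k X (BunMod.ussOK (st k X) r d) := by
  intro B B' _ _ _ _ _ _ φ hφ hm β hβ F hF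
  obtain ⟨hr, hdeg, hss⟩ := hF
  obtain ⟨ψ, rfl⟩ : ∃ ψ : CommRingCat.of k ⟶ CommRingCat.of B', Spec.map ψ = β :=
    ⟨Spec.preimage β, Spec.map_preimage β⟩
  let _ : Algebra k B' := ψ.hom.toAlgebra
  let _ : (PicF.XT (st k X) (tpt (Spec.map ψ))).Over (Spec (CommRingCat.of B')) :=
    ⟨PicF.XTproj (st k X) (tpt (Spec.map ψ))⟩
  have hfl : Flat (PicF.XT (st k X) (tpt (Spec.map ψ)) ↘ Spec (CommRingCat.of B')) :=
    inferInstanceAs (Flat (pullback.snd (st k X) (Spec.map ψ)))
  have hsep : (PicF.XT (st k X) (tpt (Spec.map ψ))).IsSeparated := by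
    have : IsSeparated (pullback.snd (st k X) (Spec.map ψ)) := inferInstance
    exact ⟨by
      change IsSeparated (terminal.from (pullback (st k X) (Spec.map ψ)))
      rw [← terminal.comp_from (pullback.snd (st k X) (Spec.map ψ))]
      infer_instance⟩
  let ρ := IsLocalRing.residue B
  have hρ : Function.Surjective ρ := IsLocalRing.residue_surjective
  have c1 : IsClosedImmersion (Spec.map (CommRingCat.ofHom φ)) := IsClosedImmersion.spec_of_surjective _ hφ
  have c2 : IsClosedImmersion (Spec.map (CommRingCat.ofHom ρ)) := IsClosedImmersion.spec_of_surjective _ hρ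
  obtain ⟨F', hF', ⟨e⟩⟩ := K977.Lift.exists_lift φ ρ hφ hρ hm k
    (isPullback_XTmap (st k X) (thk φ (Spec.map ψ)))
    (isPullback_XTmap (st k X) (thk ρ (Spec.map (CommRingCat.ofHom φ) ≫ Spec.map ψ)))
    (fun G => subsingleton_H2 k X hdim _ G) F (Groth.Agent.Krr.H487.KerRank.isFinLocFree_of_rank hr)
  have hcl : IsClosedImmersion (PicF.XTmap (st k X) (thk φ (Spec.map ψ))) :=
    MorphismProperty.of_isPullback (isPullback_XTmap (st k X) (thk φ (Spec.map ψ))).flip c1
  have hsur := K977.Lift.surjective_of_sq (PicF.XTmap (st k X) (thk φ (Spec.map ψ)))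
    (K977.Lift.sq_eq_bot φ hφ hm (isPullback_XTmap (st k X) (thk φ (Spec.map ψ))))
  have hfac : ∀ (Ω : Type u) [Field Ω] (t : Spec (CommRingCat.of Ω) ⟶ (tpt (k := k) (Spec.map ψ)).left),
      ∃ t₀ : Spec (CommRingCat.of Ω) ⟶ (tpt (k := k) (Spec.map (CommRingCat.ofHom φ) ≫ Spec.map ψ)).left,
        t₀ ≫ (thk φ (Spec.map ψ)).left = t := fun Ω _ t =>
    exists_fac φ hφ (isNilpotent_of_small φ hm) t
  exact ⟨F', ⟨K977.Lift.rank_of_pullback _ hF' (Groth.Agent.Krr.H487.KerRank.isFinLocFreeOfRank_of_iso e.symm hr),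
    fibDeg_of_thick (st k X) _ hfac ⟨e⟩ hdeg, fibSemistable_of_thick (st k X) _ hfac ⟨e⟩ hss⟩, ⟨e⟩⟩

/-- **The same with fixed determinant.** -/
theorem ussDet [CharZero k] [IsProper (X ↘ Spec (CommRingCat.of k))] [Smooth (X ↘ Spec (CommRingCat.of k))]
    (hdim : topologicalKrullDim X ≤ 1) (r : ℕ) (hr1 : 1 ≤ r) (L : X.Modules) (hL : PicF.IsInvertible L) :
    SmallLift k X (BunMod.ussDetOK (st k X) r L) := by
  intro B B' _ _ _ _ _ _ φ hφ hm β hβ F hF
  obtain ⟨hr, ⟨D, hD, M, hM, ⟨eD⟩⟩, hss⟩ := hF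
  obtain ⟨ψ, rfl⟩ : ∃ ψ : CommRingCat.of k ⟶ CommRingCat.of B', Spec.map ψ = β :=
    ⟨Spec.preimage β, Spec.map_preimage β⟩
  let _ : Algebra k B' := ψ.hom.toAlgebra
  let _ : (PicF.XT (st k X) (tpt (Spec.map ψ))).Over (Spec (CommRingCat.of B')) :=
    ⟨PicF.XTproj (st k X) (tpt (Spec.map ψ))⟩
  have hfl : Flat (PicF.XT (st k X) (tpt (Spec.map ψ)) ↘ Spec (CommRingCat.of B')) :=
    inferInstanceAs (Flat (pullback.snd (st k X) (Spec.map ψ)))
  have hsep : (PicF.XT (st k X) (tpt (Spec.map ψ))).IsSeparated := by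
    have : IsSeparated (pullback.snd (st k X) (Spec.map ψ)) := inferInstance
    exact ⟨by
      change IsSeparated (terminal.from (pullback (st k X) (Spec.map ψ)))
      rw [← terminal.comp_from (pullback.snd (st k X) (Spec.map ψ))]
      infer_instance⟩
  let ρ := IsLocalRing.residue B
  have hρ : Function.Surjective ρ := IsLocalRing.residue_surjective
  have c1 : IsClosedImmersion (Spec.map (CommRingCat.ofHom φ)) := IsClosedImmersion.spec_of_surjective _ hφ
  have c2 : IsClosedImmersion (Spec.map (CommRingCat.ofHom ρ)) := IsClosedImmersion.spec_of_surjective _ hρ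
  -- the constant family `L`
  have hLT : PicF.IsInvertible (cst k (tpt (Spec.map ψ)) L) := Groth.Agent.Fdesc.LocGen.isInvertible_pullback _ hL
  obtain ⟨eM⟩ := K248.Basic.triv_of_specLocal B
    (PicF.XTproj (st k X) (tpt (Spec.map (CommRingCat.ofHom φ) ≫ Spec.map ψ))) hM
  have hDL : Nonempty ((Scheme.Modules.pullback (PicF.XTmap (st k X) (thk φ (Spec.map ψ)))).obj
      (cst k (tpt (Spec.map ψ)) L) ≅ D) :=
    ⟨plCst (thk φ (Spec.map ψ)) L ≪≫ (Groth.Agent.Ega2.Tens.runit _).symm ≪≫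
      K977.Lift.tensIso (Iso.refl _) eM.symm ≪≫ eD.symm⟩
  have hunit : IsUnit (r : Γ(PicF.XT (st k X) (tpt (Spec.map ψ)), ⊤)) := by
    have h1 : IsUnit (r : k) := by
      rw [isUnit_iff_ne_zero]
      exact Nat.cast_ne_zero.2 (by omega)
    have h2 := h1.map ((fT k X (tpt (Spec.map ψ))).comp ((kOf B').comp ψ.hom))
    rwa [map_natCast] at h2
  obtain ⟨F', hF', ⟨e⟩, D', hD', ⟨eD'⟩⟩ := K977.Lift.exists_lift_det φ ρ hφ hρ hm k
    (isPullback_XTmap (st k X) (thk φ (Spec.map ψ)))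
    (isPullback_XTmap (st k X) (thk ρ (Spec.map (CommRingCat.ofHom φ) ≫ Spec.map ψ)))
    (fun G => subsingleton_H2 k X hdim _ G) r hunit (cst k (tpt (Spec.map ψ)) L) hLT F hr D hD hDL
  have hfac : ∀ (Ω : Type u) [Field Ω] (t : Spec (CommRingCat.of Ω) ⟶ (tpt (k := k) (Spec.map ψ)).left),
      ∃ t₀ : Spec (CommRingCat.of Ω) ⟶ (tpt (k := k) (Spec.map (CommRingCat.ofHom φ) ≫ Spec.map ψ)).left,
        t₀ ≫ (thk φ (Spec.map ψ)).left = t := fun Ω _ t =>
    exists_fac φ hφ (isNilpotent_of_small φ hm) t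
  refine ⟨F', ⟨hF', ⟨D', hD', Coh.structureModule _, ?_, ⟨eD'.symm ≪≫ (Groth.Agent.Ega2.Tens.runit _).symm ≪≫
    K977.Lift.tensIso (Iso.refl _) (K977.Lift.pullUnit _).symm⟩⟩,
    fibSemistable_of_thick (st k X) _ hfac ⟨e⟩ hss⟩, ⟨e⟩⟩
  exact Groth.Agent.Fdesc.LocGen.isInvertible_structureModule

/-! ### Stability under pull-back -/

section Pull

variable {k X}

omit [IsAlgClosed k] in
theorem ussOK_pl {r : ℕ} {d : ℤ} {T T' : Over (B0 k)} (g : T' ⟶ T) {E : (PicF.XT (st k X) T).Modules}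
    (h : BunMod.ussOK (st k X) r d T E) : BunMod.ussOK (st k X) r d T' (pl k X g E) :=
  ⟨Groth.Agent.Krr.H482.PullLambda.isFinLocFreeOfRank_pullback _ h.1, fibDeg_pull _ g h.2.1,
    fibSemistable_pull _ g h.2.2⟩

omit [IsAlgClosed k] in
theorem detIs_pl {r : ℕ} {L : X.Modules} {T T' : Over (B0 k)} (g : T' ⟶ T) {E : (PicF.XT (st k X) T).Modules}
    (hE : FlatMod.IsFinLocFree E) (h : ModFun.DetIs (st k X) r L T E) :
    ModFun.DetIs (st k X) r L T' (pl k X g E) := by
  obtain ⟨D, hD, M, hM, ⟨e⟩⟩ := h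
  refine ⟨pl k X g D, Groth.Agent.Krr.H487.PullExt.isExtPow_pullback _ hE hD, (Scheme.Modules.pullback g.left).obj M,
    Groth.Agent.Fdesc.LocGen.isInvertible_pullback _ hM, ⟨?_⟩⟩
  refine (Scheme.Modules.pullback _).mapIso e ≪≫ K977.Lift.pullTens _ _ _ ≪≫ K977.Lift.tensIso (plCst g L) ?_
  exact (Scheme.Modules.pullbackComp _ _).app M ≪≫ (Scheme.Modules.pullbackCongr (XTmap_snd (st k X) g)).app M ≪≫
    (Scheme.Modules.pullbackComp _ _).symm.app M

omit [IsAlgClosed k] in
theorem ussDetOK_pl {r : ℕ} {L : X.Modules} {T T' : Over (B0 k)} (g : T' ⟶ T) {E : (PicF.XT (st k X) T).Modules}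
    (h : BunMod.ussDetOK (st k X) r L T E) : BunMod.ussDetOK (st k X) r L T' (pl k X g E) :=
  ⟨Groth.Agent.Krr.H482.PullLambda.isFinLocFreeOfRank_pullback _ h.1,
    detIs_pl g (Groth.Agent.Krr.H487.KerRank.isFinLocFree_of_rank h.1) h.2.1, fibSemistable_pull _ g h.2.2⟩

end Pull

/-- **The atlas of the moduli problem of semistable bundles is smooth.** -/
theorem smooth_atlas [IsProper (X ↘ Spec (CommRingCat.of k))] [Smooth (X ↘ Spec (CommRingCat.of k))]
    (hdim : topologicalKrullDim X = 1) {r : ℕ} {d : ℤ} (A : AtlasC k X (BunMod.ussOK (st k X) r d)) : Smooth A.Z.hom :=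
  atlasC A (fun _ c => ussOK_pl c A.ok) (uss k X hdim.le r d)

/-- **The atlas of the moduli problem of semistable bundles with fixed determinant is smooth.** -/
theorem smooth_atlas_det [CharZero k] [IsProper (X ↘ Spec (CommRingCat.of k))] [Smooth (X ↘ Spec (CommRingCat.of k))]
    (hdim : topologicalKrullDim X = 1) {r : ℕ} (hr : 1 ≤ r) (L : X.Modules) (hL : PicF.IsInvertible L)
    (A : AtlasC k X (BunMod.ussDetOK (st k X) r L)) : Smooth A.Z.hom :=
  atlasC A (fun _ c => ussDetOK_pl c A.ok) (ussDet k X hdim.le r hr L hL)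

end K977.Adm
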