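import Groth.Agent.BunMod.K140.Defs3
import Groth.Agent.CurvesC.DegIso
import Groth.Agent.Grpsch.PicGrp

/-!
# Families over thickenings

`XTmap`, pull-backs of families (`plComp`, `plCst`), and: the conditions on geometric fibres (degree, semistability) for a
family over `T'` follow from the ones over `T` if every geometric point of `T'` comes from `T`.
-/

set_option autoImplicit false
universe u

open CategoryTheory CategoryTheory.Limits AlgebraicGeometry TopologicalSpace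

namespace K977.Fam

open K140.BM

section Gen

variable {X S : Scheme.{u}} (f : X ⟶ S)

theorem XTmap_fst {T T' : Over S} (g : T' ⟶ T) : PicF.XTmap f g ≫ pullback.fst f T.hom = pullback.fst f T'.hom := by
  unfold PicF.XTmap
  rw [pullback.lift_fst, Category.comp_id]

theorem XTmap_snd {T T' : Over S} (g : T' ⟶ T) :
    PicF.XTmap f g ≫ pullback.snd f T.hom = pullback.snd f T'.hom ≫ g.left := by
  unfold PicF.XTmap
  rw [pullback.lift_snd]

theorem XTmap_id (T : Over S) : PicF.XTmap f (𝟙 T) = 𝟙 _ := by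
  apply pullback.hom_ext
  · rw [XTmap_fst, Category.id_comp]
  · rw [XTmap_snd, Category.id_comp, Over.id_left]
    exact Category.comp_id _

theorem XTmap_comp {T T' T'' : Over S} (h : T'' ⟶ T') (g : T' ⟶ T) :
    PicF.XTmap f (h ≫ g) = PicF.XTmap f h ≫ PicF.XTmap f g := by
  apply pullback.hom_ext
  · rw [XTmap_fst, Category.assoc, XTmap_fst, XTmap_fst]
  · rw [XTmap_snd, Category.assoc, XTmap_snd, ← Category.assoc, XTmap_snd, Over.comp_left, Category.assoc]

theorem isPullback_XTmap {T T' : Over S} (g : T' ⟶ T) :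
    IsPullback (PicF.XTmap f g) (PicF.XTproj f T') (PicF.XTproj f T) g.left := by
  have h1 : IsPullback (pullback.fst f T'.hom) (pullback.snd f T'.hom) f T'.hom := IsPullback.of_hasPullback _ _
  have h2 : IsPullback (pullback.fst f T.hom) (pullback.snd f T.hom) f T.hom := IsPullback.of_hasPullback _ _
  refine IsPullback.of_right ?_ ?_ h2
  · rw [Over.w g, XTmap_fst]
    exact h1
  · exact XTmap_snd f g

/-- Composition of pull-backs. -/
noncomputable def pbComp {T T' T'' : Over S} (h : T'' ⟶ T') (g : T' ⟶ T) (E : (PicF.XT f T).Modules) :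
    (Scheme.Modules.pullback (PicF.XTmap f h)).obj ((Scheme.Modules.pullback (PicF.XTmap f g)).obj E) ≅
      (Scheme.Modules.pullback (PicF.XTmap f (h ≫ g))).obj E :=
  (Scheme.Modules.pullbackComp _ _).app E ≪≫ (Scheme.Modules.pullbackCongr (XTmap_comp f h g).symm).app E

/-- A condition at geometric points holds for all the presentations of the point. -/
theorem fibrewise_at {P : ∀ (Ω : Type u) [Field Ω] [IsAlgClosed Ω] (s : Spec (CommRingCat.of Ω) ⟶ S),
    (PicF.XT f (Over.mk s)).Modules → Prop} {T : Over S} {F : (PicF.XT f T).Modules}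
    (h : (ModFun.modProb f).Fibrewise P T F) (Ω : Type u) [Field Ω] [IsAlgClosed Ω]
    (s : Spec (CommRingCat.of Ω) ⟶ S) (t : Spec (CommRingCat.of Ω) ⟶ T.left) (w : t ≫ T.hom = s) :
    P Ω s ((Scheme.Modules.pullback (PicF.XTmap f (Over.homMk t w : Over.mk s ⟶ T))).obj F) := by
  subst w
  exact h Ω t

/-- Conditions at geometric points pass to thickenings. -/
theorem fibrewise_of_thick {P : ∀ (Ω : Type u) [Field Ω] [IsAlgClosed Ω] (s : Spec (CommRingCat.of Ω) ⟶ S),
    (PicF.XT f (Over.mk s)).Modules → Prop}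
    (hP : ∀ (Ω : Type u) [Field Ω] [IsAlgClosed Ω] (s : Spec (CommRingCat.of Ω) ⟶ S)
      (E E' : (PicF.XT f (Over.mk s)).Modules), Nonempty (E ≅ E') → P Ω s E → P Ω s E')
    {T T' : Over S} (i : T ⟶ T')
    (hfac : ∀ (Ω : Type u) [Field Ω] (t : Spec (CommRingCat.of Ω) ⟶ T'.left),
      ∃ t₀ : Spec (CommRingCat.of Ω) ⟶ T.left, t₀ ≫ i.left = t)
    {F : (PicF.XT f T).Modules} {F' : (PicF.XT f T').Modules}
    (e : Nonempty ((Scheme.Modules.pullback (PicF.XTmap f i)).obj F' ≅ F))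
    (h : (ModFun.modProb f).Fibrewise P T F) : (ModFun.modProb f).Fibrewise P T' F' := by
  intro Ω _ _ t
  obtain ⟨t₀, rfl⟩ := hfac Ω t
  obtain ⟨e⟩ := e
  have w : t₀ ≫ T.hom = (t₀ ≫ i.left) ≫ T'.hom := by rw [Category.assoc, Over.w]
  refine hP Ω _ _ _ ⟨?_⟩ (fibrewise_at f h Ω _ t₀ w)
  refine (Scheme.Modules.pullback (PicF.XTmap f (Over.homMk t₀ w : Over.mk ((t₀ ≫ i.left) ≫ T'.hom) ⟶ T))).mapIso e.symm ≪≫
    pbComp f _ i F' ≪≫ (Scheme.Modules.pullbackCongr (congrArg (PicF.XTmap f) ?_)).app F'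
  ext
  rfl

/-- Conditions at geometric points are stable under pull-back. -/
theorem fibrewise_pull {P : ∀ (Ω : Type u) [Field Ω] [IsAlgClosed Ω] (s : Spec (CommRingCat.of Ω) ⟶ S),
    (PicF.XT f (Over.mk s)).Modules → Prop}
    (hP : ∀ (Ω : Type u) [Field Ω] [IsAlgClosed Ω] (s : Spec (CommRingCat.of Ω) ⟶ S)
      (E E' : (PicF.XT f (Over.mk s)).Modules), Nonempty (E ≅ E') → P Ω s E → P Ω s E')
    {T T' : Over S} (g : T' ⟶ T) {F : (PicF.XT f T).Modules}
    (h : (ModFun.modProb f).Fibrewise P T F) :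
    (ModFun.modProb f).Fibrewise P T' ((Scheme.Modules.pullback (PicF.XTmap f g)).obj F) := by
  intro Ω _ _ t
  have w : (t ≫ g.left) ≫ T.hom = t ≫ T'.hom := by rw [Category.assoc, Over.w]
  refine hP Ω _ _ _ ⟨?_⟩ (fibrewise_at f h Ω _ (t ≫ g.left) w)
  refine (Scheme.Modules.pullbackCongr (congrArg (PicF.XTmap f) ?_)).app F ≪≫
    (pbComp f (Over.homMk t rfl : Over.mk (t ≫ T'.hom) ⟶ T') g F).symm
  ext
  rfl

theorem slopeSemistable_iso (k : Type u) [Field k] (X : Scheme.{u}) [X.Over (Spec (CommRingCat.of k))]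
    {E E' : X.Modules} (e : E ≅ E') {r : ℕ} (h : ModFun.IsSlopeSemistable k X E r) :
    ModFun.IsSlopeSemistable k X E' r := by
  intro F r' i hi hr hF
  rw [← Groth.Agent.CurvesC.DegIso.deg_congr k e r]
  have := mono_comp i e.inv
  exact h F r' (i ≫ e.inv) this hr hF

theorem fibDeg_of_thick {r : ℕ} {d : ℤ} {T T' : Over S} (i : T ⟶ T')
    (hfac : ∀ (Ω : Type u) [Field Ω] (t : Spec (CommRingCat.of Ω) ⟶ T'.left),
      ∃ t₀ : Spec (CommRingCat.of Ω) ⟶ T.left, t₀ ≫ i.left = t)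
    {F : (PicF.XT f T).Modules} {F' : (PicF.XT f T').Modules}
    (e : Nonempty ((Scheme.Modules.pullback (PicF.XTmap f i)).obj F' ≅ F))
    (h : ModFun.FibDeg f r d T F) : ModFun.FibDeg f r d T' F' :=
  fibrewise_of_thick f (fun Ω _ _ s E E' e h => by
    obtain ⟨e⟩ := e
    let _ : (PicF.XT f (Over.mk s)).Over (Spec (CommRingCat.of Ω)) := ⟨PicF.XTproj f (Over.mk s)⟩
    exact (Groth.Agent.CurvesC.DegIso.deg_congr Ω e r).symm.trans h) i hfac e h

theorem fibSemistable_of_thick {r : ℕ} {T T' : Over S} (i : T ⟶ T')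
    (hfac : ∀ (Ω : Type u) [Field Ω] (t : Spec (CommRingCat.of Ω) ⟶ T'.left),
      ∃ t₀ : Spec (CommRingCat.of Ω) ⟶ T.left, t₀ ≫ i.left = t)
    {F : (PicF.XT f T).Modules} {F' : (PicF.XT f T').Modules}
    (e : Nonempty ((Scheme.Modules.pullback (PicF.XTmap f i)).obj F' ≅ F))
    (h : BunMod.FibSemistable f r T F) : BunMod.FibSemistable f r T' F' :=
  fibrewise_of_thick f (fun Ω _ _ s E E' e h => by
    obtain ⟨e⟩ := e
    let _ : (PicF.XT f (Over.mk s)).Over (Spec (CommRingCat.of Ω)) := ⟨PicF.XTproj f (Over.mk s)⟩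
    exact slopeSemistable_iso Ω _ e h) i hfac e h

theorem fibDeg_pull {r : ℕ} {d : ℤ} {T T' : Over S} (g : T' ⟶ T) {F : (PicF.XT f T).Modules}
    (h : ModFun.FibDeg f r d T F) : ModFun.FibDeg f r d T' ((Scheme.Modules.pullback (PicF.XTmap f g)).obj F) :=
  fibrewise_pull f (fun Ω _ _ s E E' e h => by
    obtain ⟨e⟩ := e
    let _ : (PicF.XT f (Over.mk s)).Over (Spec (CommRingCat.of Ω)) := ⟨PicF.XTproj f (Over.mk s)⟩
    exact (Groth.Agent.CurvesC.DegIso.deg_congr Ω e r).symm.trans h) g h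

theorem fibSemistable_pull {r : ℕ} {T T' : Over S} (g : T' ⟶ T) {F : (PicF.XT f T).Modules}
    (h : BunMod.FibSemistable f r T F) :
    BunMod.FibSemistable f r T' ((Scheme.Modules.pullback (PicF.XTmap f g)).obj F) :=
  fibrewise_pull f (fun Ω _ _ s E E' e h => by
    obtain ⟨e⟩ := e
    let _ : (PicF.XT f (Over.mk s)).Over (Spec (CommRingCat.of Ω)) := ⟨PicF.XTproj f (Over.mk s)⟩
    exact slopeSemistable_iso Ω _ e h) g h

/-- Points of `Spec B'` with values in a field factor through `Spec B`, `B = B' / nilpotent`. -/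
theorem exists_fac {B B' : Type u} [CommRing B] [CommRing B'] (φ : B' →+* B) (hφ : Function.Surjective φ)
    (hn : ∀ x, φ x = 0 → IsNilpotent x) {Ω : Type u} [Field Ω] (t : Spec (CommRingCat.of Ω) ⟶ Spec (CommRingCat.of B')) :
    ∃ t₀ : Spec (CommRingCat.of Ω) ⟶ Spec (CommRingCat.of B), t₀ ≫ Spec.map (CommRingCat.ofHom φ) = t := by
  obtain ⟨ψ, rfl⟩ : ∃ ψ : CommRingCat.of B' ⟶ CommRingCat.of Ω, Spec.map ψ = t := ⟨Spec.preimage t, Spec.map_preimage t⟩
  have h : ∀ x, φ x = 0 → ψ.hom x = 0 := fun x hx => ((hn x hx).map ψ.hom).eq_zero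
  let χ : B →+* Ω := (φ.liftOfSurjective hφ ⟨ψ.hom, h⟩)
  have hχ : χ.comp φ = ψ.hom := φ.liftOfRightInverse_comp _ _ ⟨ψ.hom, h⟩
  refine ⟨Spec.map (CommRingCat.ofHom χ), ?_⟩
  rw [← Spec.map_comp, ← CommRingCat.ofHom_comp, hχ]
  rfl

end Gen

variable {k : Type u} [Field k] {X : Scheme.{u}} [X.Over (Spec (CommRingCat.of k))]

/-- Pull-back of constant families. -/
noncomputable def plCst {T T' : Over (B0 k)} (g : T' ⟶ T) (L : X.Modules) : pl k X g (cst k T L) ≅ cst k T' L :=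
  (Scheme.Modules.pullbackComp _ _).app L ≪≫ (Scheme.Modules.pullbackCongr (XTmap_fst (st k X) g)).app L

/-- Composition of pull-backs. -/
noncomputable def plComp {T T' T'' : Over (B0 k)} (h : T'' ⟶ T') (g : T' ⟶ T) (E : (PicF.XT (st k X) T).Modules) :
    pl k X h (pl k X g E) ≅ pl k X (h ≫ g) E := pbComp (st k X) h g E

end K977.Fam
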