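import Groth.Agent.BunMod.K977.Root
import Mathlib.LinearAlgebra.Matrix.Charpoly.Coeff

/-!
# Traceless first order deformations have constant determinant

`p : Y ⟶ X` affine, `eps` a function on `Y` with square zero, `E`, `G` on `X`, `M` on `Y`, `j : E ⟶ G`, `π : G ⟶ E`,
`ρ : G ⟶ p_* M` (given on sections) with `eps ρ(g) = ρ(j π g)`, such that `ρ` carries lifts of local bases of `E` to local
bases of `M`; two partial splittings `σ₀`, `σ₁` of `π` over a covering `U₀`, `U₁`, with `σ₀ - σ₁ = j φ`, and `φ` of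
trace zero in a basis of `E` over `U₁`.  Then `det M = p^* det E`.
-/

set_option autoImplicit false
universe u

open CategoryTheory CategoryTheory.Limits AlgebraicGeometry Opposite TopologicalSpace
open Groth.Agent.Sga67 Groth.Agent.Sga67.Sec Groth.Agent.Sga67.LocBasis Groth.Agent.Dual.H376.GlueGen
open Groth.Agent.Grpsch Groth.Agent.Krr.H487.LocBasisPull K451.Coc K451.DetMat K977.Root

namespace K977.Trless

theorem det_one_add_eps {R : Type*} [CommRing R] {n : ℕ} {e : R} (he : e * e = 0) {Φ : Matrix (Fin n) (Fin n) R}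
    (h : Φ.trace = 0) : (1 + e • Φ).det = 1 := by
  rw [Matrix.det_one_add_smul, h, zero_mul, add_zero, pow_two, he, mul_zero, add_zero]

variable {X Y : Scheme.{u}} (p : Y ⟶ X) {E G : X.Modules} {M : Y.Modules}

/-- A homomorphism `E|_U ⟶ G|_U` given on sections. -/
structure PartHom (U : X.Opens) (E G : X.Modules) where
  /-- the maps on sections -/
  f : ∀ V : X.Opens, V ≤ U → (Sec E V →ₗ[Γ(X, V)] Sec G V)
  /-- compatibility with restrictions -/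
  res_f : ∀ (V W : X.Opens) (hV : V ≤ U) (h : W ≤ V) (x : Sec E V),
    res G h (f V hV x) = f W (h.trans hV) (res E h x)

theorem sum_mul_smul {R N : Type*} [CommRing R] [AddCommGroup N] [Module R N] {n : ℕ} (A B : Matrix (Fin n) (Fin n) R)
    (v : Fin n → N) (a : Fin n) : ∑ m, (A * B) a m • v m = ∑ l, A a l • ∑ m, B l m • v m := by
  simp only [Matrix.mul_apply, Finset.sum_smul, Finset.smul_sum, mul_smul]
  rw [Finset.sum_comm]

section

variable {U : X.Opens} (σ : PartHom U E G)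

theorem PartHom.sum {V : X.Opens} (hV : V ≤ U) {n : ℕ} (c : Fin n → Γ(X, V)) (x : Fin n → Sec E V) :
    σ.f V hV (∑ l, c l • x l) = ∑ l, c l • σ.f V hV (x l) := by
  rw [map_sum]
  exact Finset.sum_congr rfl fun l _ => map_smul _ _ _

end

section Core

variable {r : ℕ} (eps : Γ(Y, ⊤)) (j : E ⟶ G) (π : G ⟶ E)
  (ρ : ∀ V : X.Opens, Sec G V →+ Sec M (p ⁻¹ᵁ V))
  (ρ_smul : ∀ (V : X.Opens) (a : Γ(X, V)) (g : Sec G V), ρ V (a • g) = (p.app V a : Γ(Y, p ⁻¹ᵁ V)) • ρ V g)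
  (ρ_res : ∀ (V W : X.Opens) (h : W ≤ V) (g : Sec G V), ρ W (res G h g) = res M (p.preimage_mono h) (ρ V g))
  (ρ_eps : ∀ (V : X.Opens) (g : Sec G V), ρ V (appS j V (appS π V g)) = (resO Y le_top eps : Γ(Y, p ⁻¹ᵁ V)) • ρ V g)

/-- The image of a matrix. -/
noncomputable def pm {V : X.Opens} (A : Matrix (Fin r) (Fin r) Γ(X, V)) : Matrix (Fin r) (Fin r) Γ(Y, p ⁻¹ᵁ V) :=
  A.map (p.app V)

theorem pm_mul {V : X.Opens} (A B : Matrix (Fin r) (Fin r) Γ(X, V)) : pm p (A * B) = pm p A * pm p B :=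
  Matrix.map_mul (f := (p.app V).hom)

theorem det_pm {V : X.Opens} (A : Matrix (Fin r) (Fin r) Γ(X, V)) : (pm p A).det = p.app V A.det :=
  (RingHom.map_det (p.app V).hom A).symm

include ρ_smul in
theorem rho_sum {V : X.Opens} {n : ℕ} (c : Fin n → Γ(X, V)) (x : Fin n → Sec G V) :
    ρ V (∑ l, c l • x l) = ∑ l, (p.app V (c l) : Γ(Y, p ⁻¹ᵁ V)) • ρ V (x l) := by
  rw [map_sum]
  exact Finset.sum_congr rfl fun l _ => ρ_smul _ _ _

variable (U₀ U₁ : X.Opens) (σ₀ : PartHom U₀ E G) (σ₁ : PartHom U₁ E G) (φ : PartHom (U₀ ⊓ U₁) E E)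
  (hσ₀ : ∀ (V : X.Opens) (hV : V ≤ U₀) (x : Sec E V), appS π V (σ₀.f V hV x) = x)
  (hσ₁ : ∀ (V : X.Opens) (hV : V ≤ U₁) (x : Sec E V), appS π V (σ₁.f V hV x) = x)
  (hφ : ∀ (V : X.Opens) (hV : V ≤ U₀ ⊓ U₁) (x : Sec E V),
    σ₀.f V (hV.trans inf_le_left) x - σ₁.f V (hV.trans inf_le_right) x = appS j V (φ.f V hV x))
  (e : Fin r → Sec E U₁) (Φ : Matrix (Fin r) (Fin r) Γ(X, U₀ ⊓ U₁))
  (hΦ : ∀ l, φ.f (U₀ ⊓ U₁) le_rfl (res E inf_le_right (e l)) = ∑ m, Φ l m • res E inf_le_right (e m))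

/-- Admissible frames. -/
def Fr (V : X.Opens) (b : Fin r → Sec E V) (g : Fin r → Sec G V) : Prop :=
  (∃ hV : V ≤ U₁, (∀ l, b l = res E hV (e l)) ∧ ∀ l, g l = σ₁.f V hV (b l)) ∨
    ∃ hV : V ≤ U₀, ∀ l, g l = σ₀.f V hV (b l)

include hσ₀ hσ₁ in
theorem Fr.pi {V : X.Opens} {b : Fin r → Sec E V} {g : Fin r → Sec G V} (h : Fr U₀ U₁ σ₀ σ₁ e V b g) (l : Fin r) :
    appS π V (g l) = b l := by
  rcases h with ⟨hV, -, h⟩ | ⟨hV, h⟩
  · rw [h, hσ₁]
  · rw [h, hσ₀]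

include hΦ in
theorem phi_res {W : X.Opens} (hW : W ≤ U₀ ⊓ U₁) (l : Fin r) :
    φ.f W hW (res E (hW.trans inf_le_right) (e l)) = ∑ m, resO X hW (Φ l m) • res E (hW.trans inf_le_right) (e m) := by
  have h1 := congrArg (res E hW) (hΦ l)
  rw [φ.res_f, res_res, map_sum] at h1
  rw [h1]
  refine Finset.sum_congr rfl fun m _ => ?_
  rw [res_smul, res_res]

include ρ_smul ρ_eps hσ₀ hσ₁ hφ hΦ in
theorem transition (heps : eps * eps = 0) (htr : Φ.trace = 0) {V V' W : X.Opens} (hWV : W ≤ V) (hWV' : W ≤ V')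
    {b : Fin r → Sec E V}
    {g : Fin r → Sec G V} {b' : Fin r → Sec E V'} {g' : Fin r → Sec G V'} (h : Fr U₀ U₁ σ₀ σ₁ e V b g)
    (h' : Fr U₀ U₁ σ₀ σ₁ e V' b' g') (a : Matrix (Fin r) (Fin r) Γ(X, W))
    (ha : ∀ l, res E hWV (b l) = ∑ m, a l m • res E hWV' (b' m)) :
    ∃ a' : Matrix (Fin r) (Fin r) Γ(Y, p ⁻¹ᵁ W), a'.det = p.app W a.det ∧
      ∀ l, ρ W (res G hWV (g l)) = ∑ m, a' l m • ρ W (res G hWV' (g' m)) := by
  obtain ⟨ε, hεd⟩ : ∃ ε : Γ(Y, p ⁻¹ᵁ W), ε = resO Y le_top eps := ⟨_, rfl⟩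
  have hε : ε * ε = 0 := by
    rw [hεd, ← map_mul, heps, map_zero]
  -- the frames on `W`
  obtain ⟨β, hβ⟩ : ∃ β : Fin r → Sec E W, ∀ m, β m = res E hWV' (b' m) := ⟨_, fun _ => rfl⟩
  obtain ⟨γ, hγ⟩ : ∃ γ : Fin r → Sec G W, ∀ m, γ m = res G hWV' (g' m) := ⟨_, fun _ => rfl⟩
  obtain ⟨α, hα⟩ : ∃ α : Fin r → Sec E W, ∀ m, α m = res E hWV (b m) := ⟨_, fun _ => rfl⟩
  have hπ : ∀ m, appS π W (γ m) = β m := fun m => by
    rw [hγ, appS_res, h'.pi π U₀ U₁ σ₀ σ₁ hσ₀ hσ₁ e, hβ]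
  have hjρ : ∀ m, ρ W (appS j W (β m)) = ε • ρ W (γ m) := fun m => by
    rw [← hπ, hεd]
    exact ρ_eps _ _
  have ha' : ∀ l, α l = ∑ m, a l m • β m := fun l => by
    rw [hα, ha]
    exact Finset.sum_congr rfl fun m _ => by rw [hβ]
  simp only [← hγ]
  -- a section of the form `σ (a β)` with `σ β = γ`
  have same : ∀ (U : X.Opens) (σ : PartHom U E G) (hU : W ≤ U) (_ : ∀ m, γ m = σ.f W hU (β m)) (l : Fin r),
      ρ W (σ.f W hU (α l)) = ∑ m, pm p a l m • ρ W (γ m) := by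
    intro U σ hU hγ' l
    rw [ha', PartHom.sum, rho_sum p ρ ρ_smul]
    refine Finset.sum_congr rfl fun m _ => ?_
    rw [← hγ']
    rfl
  rcases h with ⟨hV, hb, hg⟩ | ⟨hV, hg⟩ <;> rcases h' with ⟨hV', hb', hg'⟩ | ⟨hV', hg'⟩
  · -- both on `U₁`
    refine ⟨pm p a, det_pm p a, fun l => ?_⟩
    rw [← same U₁ σ₁ (hWV.trans hV) (fun m => by
      rw [hγ, hg', σ₁.res_f, hβ]) l, hg, σ₁.res_f, hα]
  · -- `V ≤ U₁`, `V' ≤ U₀`
    have hW' : W ≤ U₀ ⊓ U₁ := le_inf (hWV'.trans hV') (hWV.trans hV)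
    obtain ⟨Ψ, hΨ⟩ : ∃ Ψ : Matrix (Fin r) (Fin r) Γ(X, W), ∀ l m, Ψ l m = resO X hW' (Φ l m) := ⟨_, fun _ _ => rfl⟩
    refine ⟨(1 + (-ε) • pm p Ψ) * pm p a, ?_, fun l => ?_⟩
    · have htr' : (pm p Ψ).trace = 0 := by
        have h1 : (pm p Ψ).trace = p.app W (resO X hW' Φ.trace) := by
          simp [Matrix.trace, pm, hΨ, map_sum]
        rw [h1, htr, map_zero, map_zero]
      rw [Matrix.det_mul, det_one_add_eps (by rw [neg_mul_neg, hε]) htr', one_mul, det_pm]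
    · have h1 : res G hWV (g l) = σ₀.f W (hW'.trans inf_le_left) (α l) - appS j W (φ.f W hW' (α l)) := by
        rw [← hφ W hW', sub_sub_cancel, hg, σ₁.res_f, hα]
      have h2 := same U₀ σ₀ (hWV'.trans hV') (fun m => by rw [hγ, hg', σ₀.res_f, hβ]) l
      have h3 : ∀ l, α l = res E (hW'.trans inf_le_right) (e l) := fun l => by
        rw [hα, hb, res_res]
      have h4 : appS j W (φ.f W hW' (α l)) = ∑ m, (Ψ * a) l m • appS j W (β m) := by
        rw [h3, phi_res U₀ U₁ φ e Φ hΦ hW' l, sum_mul_smul, map_sum]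
        refine Finset.sum_congr rfl fun m _ => ?_
        rw [map_smul, hΨ]
        refine congrArg₂ (· • ·) rfl ?_
        rw [← h3, ha', map_sum]
        exact Finset.sum_congr rfl fun m' _ => map_smul _ _ _
      rw [h1, map_sub, h2, h4, rho_sum p ρ ρ_smul]
      rw [add_mul, one_mul, ← Finset.sum_sub_distrib]
      refine Finset.sum_congr rfl fun m _ => ?_
      rw [hjρ, Matrix.add_apply, add_smul, sub_eq_add_neg]
      refine congrArg₂ (· + ·) rfl ?_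
      rw [Matrix.smul_mul, ← pm_mul, Matrix.smul_apply, smul_eq_mul, neg_mul, neg_smul, smul_smul, mul_comm ε]
      rfl
  · -- `V ≤ U₀`, `V' ≤ U₁`
    have hW' : W ≤ U₀ ⊓ U₁ := le_inf (hWV.trans hV) (hWV'.trans hV')
    obtain ⟨Ψ, hΨ⟩ : ∃ Ψ : Matrix (Fin r) (Fin r) Γ(X, W), ∀ l m, Ψ l m = resO X hW' (Φ l m) := ⟨_, fun _ _ => rfl⟩
    refine ⟨pm p a * (1 + ε • pm p Ψ), ?_, fun l => ?_⟩
    · have htr' : (pm p Ψ).trace = 0 := by
        have h1 : (pm p Ψ).trace = p.app W (resO X hW' Φ.trace) := by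
          simp [Matrix.trace, pm, hΨ, map_sum]
        rw [h1, htr, map_zero, map_zero]
      rw [Matrix.det_mul, det_one_add_eps hε htr', mul_one, det_pm]
    · have h3 : ∀ l, β l = res E (hW'.trans inf_le_right) (e l) := fun l => by
        rw [hβ, hb', res_res]
      have h1 : ∀ m, σ₀.f W (hW'.trans inf_le_left) (β m) = γ m + ∑ m', Ψ m m' • appS j W (β m') := by
        intro m
        have h5 : γ m = σ₁.f W (hW'.trans inf_le_right) (β m) := by
          rw [hγ, hg', σ₁.res_f, hβ]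
        have h6 : appS j W (φ.f W hW' (β m)) = ∑ m', Ψ m m' • appS j W (β m') := by
          rw [h3, phi_res U₀ U₁ φ e Φ hΦ hW' m, map_sum]
          refine Finset.sum_congr rfl fun m' _ => ?_
          rw [map_smul, h3, hΨ]
        rw [← h6, ← hφ W hW', h5, add_sub_cancel]
      rw [hg, σ₀.res_f, ← hα, ha', PartHom.sum, rho_sum p ρ ρ_smul]
      rw [sum_mul_smul]
      refine Finset.sum_congr rfl fun m _ => ?_
      refine congrArg₂ (· • ·) rfl ?_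
      rw [h1, map_add, rho_sum p ρ ρ_smul]
      simp only [Matrix.add_apply, add_smul, Finset.sum_add_distrib]
      refine congrArg₂ (· + ·) ?_ ?_
      · rw [Finset.sum_eq_single m]
        · rw [Matrix.one_apply_eq, one_smul]
        · intro m' _ hm
          rw [Matrix.one_apply_ne hm.symm, zero_smul]
        · intro hm
          exact absurd (Finset.mem_univ m) hm
      · refine Finset.sum_congr rfl fun m' _ => ?_
        rw [hjρ, Matrix.smul_apply, smul_eq_mul, smul_smul, mul_comm ε]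
        rfl
  · -- both on `U₀`
    refine ⟨pm p a, det_pm p a, fun l => ?_⟩
    rw [← same U₀ σ₀ (hWV.trans hV) (fun m => by
      rw [hγ, hg', σ₀.res_f, hβ]) l, hg, σ₀.res_f, hα]

include ρ_smul ρ_res ρ_eps hσ₀ hσ₁ hφ hΦ in
/-- **Traceless deformations have constant determinant.** -/
theorem det_iso [IsAffineHom p] (heps : eps * eps = 0) (htr : Φ.trace = 0) (hU : U₀ ⊔ U₁ = ⊤) (he : IsLocBasis e)
    (hE : FlatMod.IsFinLocFreeOfRank r E) (hM : FlatMod.IsFinLocFreeOfRank r M)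
    (ρ_bas : ∀ (V : X.affineOpens) (b : Fin r → Sec E V.1) (g : Fin r → Sec G V.1), IsLocBasis b →
      (∀ l, appS π V.1 (g l) = b l) → IsLocBasis (M := M) (U := p ⁻¹ᵁ V.1) (fun l => ρ V.1 (g l)))
    {D : X.Modules} (hD : ExtPow.IsExtPow r E D) {D' : Y.Modules} (hD' : ExtPow.IsExtPow r M D') :
    Nonempty (D' ≅ (Scheme.Modules.pullback p).obj D) := by
  have hcov : ∀ x : X, ∃ (V : X.affineOpens) (b : Fin r → Sec E V.1) (g : Fin r → Sec G V.1),
      x ∈ V.1 ∧ IsLocBasis b ∧ Fr U₀ U₁ σ₀ σ₁ e V.1 b g := by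
    intro x
    by_cases hx : x ∈ U₁
    · obtain ⟨V₀, hV₀, hxV, hV⟩ := Opens.isBasis_iff_nbhd.mp X.isBasis_affineOpens hx
      let V : X.affineOpens := ⟨V₀, hV₀⟩
      exact ⟨V, fun l => res E hV (e l), fun l => σ₁.f V.1 hV (res E hV (e l)), hxV, he.restrict hV,
        Or.inl ⟨hV, fun _ => rfl, fun _ => rfl⟩⟩
    · have hx0 : x ∈ U₀ := by
        have : x ∈ U₀ ⊔ U₁ := by rw [hU]; trivial
        rcases this with h | h
        · exact h
        · exact absurd h hx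
      obtain ⟨V, hV, b, hxV, hb⟩ := exists_affine_basis hE hx0
      exact ⟨V, b, fun l => σ₀.f V.1 hV (b l), hxV, hb, Or.inr ⟨hV, fun _ => rfl⟩⟩
  choose V b g hx hb hfr using hcov
  choose a ha using fun x y => exists_matrix (W := (V x).1 ⊓ (V y).1) (b x) (hb y) inf_le_left inf_le_right
  have hDi := isInvertible_of_isExtPow hE hD
  have hD'i := isInvertible_of_isExtPow hM hD'
  have h1 := isCoc_pull p (isCoc_det V b hb (fun x y => Matrix.of (a x y)) ha hD hDi)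
  choose a' ha'1 ha'2 using fun x y => transition p eps j π ρ ρ_smul ρ_eps U₀ U₁ σ₀ σ₁ φ hσ₀ hσ₁ hφ e Φ hΦ heps htr
    (inf_le_left : (V x).1 ⊓ (V y).1 ≤ _) inf_le_right (hfr x) (hfr y) (Matrix.of (a x y)) (ha x y)
  have ha'3 : ∀ x y l, res M (p.preimage_mono inf_le_left : p ⁻¹ᵁ ((V x).1 ⊓ (V y).1) ≤ p ⁻¹ᵁ (V x).1) (ρ (V x).1 (g x l)) =
      ∑ m, a' x y l m • res M (p.preimage_mono inf_le_right : p ⁻¹ᵁ ((V x).1 ⊓ (V y).1) ≤ p ⁻¹ᵁ (V y).1)
        (ρ (V y).1 (g y m)) := by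
    intro x y l
    rw [← ρ_res _ _ inf_le_left, ha'2]
    exact Finset.sum_congr rfl fun m _ => by rw [← ρ_res _ _ inf_le_right]
  have h2 := isCoc_det (fun x => (⟨p ⁻¹ᵁ (V x).1, (V x).2.preimage p⟩ : Y.affineOpens))
    (fun x l => ρ (V x).1 (g x l)) (fun x => ρ_bas (V x) (b x) (g x) (hb x)
      ((hfr x).pi π U₀ U₁ σ₀ σ₁ hσ₀ hσ₁ e)) a' ha'3 hD' hD'i
  have h3 : (fun x y => (a' x y).det) =
      fun x y => (p.app ((V x).1 ⊓ (V y).1) (Matrix.of (a x y)).det : Γ(Y, p ⁻¹ᵁ ((V x).1 ⊓ (V y).1))) := by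
    funext x y
    exact ha'1 x y
  have h5 : IsCoc (fun x => p ⁻¹ᵁ (V x).1) (PicGrp.mk D' hD'i)
      (fun x y => (p.app ((V x).1 ⊓ (V y).1) (Matrix.of (a x y)).det : Γ(Y, p ⁻¹ᵁ ((V x).1 ⊓ (V y).1)))) := by
    rw [← h3]
    exact h2
  have h4 := IsCoc.eq (fun y : Y => ⟨p y, hx (p y)⟩) h5 h1
  rw [PicGrp.pull_mk, PicGrp.mk_eq_iff] at h4
  exact h4

end Core

end K977.Trless
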