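import Groth.Agent.BunMod.K977.KsSec
import Groth.Agent.Krr.H495.Rank
import Groth.Agent.PerfA.Restrict
import Groth.Agent.Dcoh.ProjFLF
import Groth.Agent.AbVar.K785.FMBound
import Groth.Agent.BunMod.K54.Theta
import Groth.Agent.BunMod.K360.FitTheta
import Groth.Agent.LoccohB.TopRepSec
import Groth.Agent.MorSch.K921.PullDual
import Groth.Agent.BunMod.K763.HSpan
import Groth.Agent.BunMod.K763.KS
import Groth.Agent.BunMod.K276.Data
import Groth.Agent.Models.K378.GeomInt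

/-!
# The Kodaira-Spencer map of the family of cokernels (KSMAIN)

`X` proper of dimension at most one, geometrically connected over `k`, `A` a noetherian domain over `k`,
`V_c = coker (∑ c_i e_i : K_A ⟶ G_A)` finite locally free with `H¹(X_A, V_c ⊗ G') = 0`:
`ksMain : KSMain e A c`.
-/

set_option autoImplicit false
universe u

open CategoryTheory CategoryTheory.Limits AlgebraicGeometry MonoidalCategory

namespace K977.KsMain

/-- The inverse image of the sub object. -/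
theorem exists_st {C : Type*} [Category* C] [Abelian C] {K G V S Q : C} {α : K ⟶ G} {π : G ⟶ V} {wα : α ≫ π = 0}
    (hα : (ShortComplex.mk α π wα).ShortExact) {i : S ⟶ V} {q : V ⟶ Q} {wi : i ≫ q = 0}
    (hi : (ShortComplex.mk i q wi).ShortExact) (w : α ≫ π ≫ q = 0) :
    ∃ (p : kernel (π ≫ q) ⟶ S) (wj : kernel.lift (π ≫ q) α w ≫ p = 0),
      (ShortComplex.mk (kernel.lift (π ≫ q) α w) p wj).ShortExact ∧ kernel.ι (π ≫ q) ≫ π = p ≫ i := by
  have m1 : Mono α := hα.mono_f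
  have m2 : Mono i := hi.mono_f
  have m3 : Epi π := hα.epi_g
  have h0 : (kernel.ι (π ≫ q) ≫ π) ≫ q = 0 := by rw [Category.assoc, kernel.condition]
  let p : kernel (π ≫ q) ⟶ S := hi.exact.lift (kernel.ι (π ≫ q) ≫ π) h0
  have hp : p ≫ i = kernel.ι (π ≫ q) ≫ π := hi.exact.lift_f _ _
  have wj : kernel.lift (π ≫ q) α w ≫ p = 0 := by
    rw [← cancel_mono i, Category.assoc, hp, ← Category.assoc, kernel.lift_ι, wα, zero_comp]
  refine ⟨p, wj, ?_, hp.symm⟩
  have hsq : IsPullback (kernel.ι (π ≫ q)) p π i := by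
    refine ⟨⟨hp.symm⟩, ⟨PullbackCone.IsLimit.mk _ (fun c => kernel.lift (π ≫ q) c.fst ?_) (fun c => ?_) (fun c => ?_)
      fun c m h1 _ => ?_⟩⟩
    · rw [← Category.assoc, c.condition, Category.assoc, wi, comp_zero]
    · exact kernel.lift_ι _ _ _
    · rw [← cancel_mono i, Category.assoc, hp, ← Category.assoc, kernel.lift_ι, c.condition]
    · rw [← cancel_mono (kernel.ι (π ≫ q)), kernel.lift_ι, h1]
  have hep : Epi p := by
    have h1 : hsq.isoPullback.hom ≫ pullback.snd π i = p := hsq.isoPullback_hom_snd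
    rw [← h1]
    exact epi_comp _ _
  have hm : Mono (kernel.lift (π ≫ q) α w) := by
    have h1 : Mono (kernel.lift (π ≫ q) α w ≫ kernel.ι (π ≫ q)) := by
      rw [kernel.lift_ι]
      exact m1
    exact mono_of_mono _ (kernel.ι (π ≫ q))
  refine { exact := ?_, mono_f := hm, epi_g := hep }
  refine ShortComplex.exact_of_f_is_kernel _ ?_
  refine KernelFork.IsLimit.ofι' _ _ fun {X} t ht => ?_
  have h2 : (t ≫ kernel.ι (π ≫ q)) ≫ π = 0 := by
    rw [Category.assoc, ← hp, ← Category.assoc]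
    exact (congrArg (· ≫ i) ht).trans zero_comp
  refine ⟨hα.exact.lift (t ≫ kernel.ι (π ≫ q)) h2, ?_⟩
  rw [← cancel_mono (kernel.ι (π ≫ q))]
  refine (Category.assoc _ _ _).trans ((congrArg (_ ≫ ·) (kernel.lift_ι _ _ _)).trans ?_)
  exact hα.exact.lift_f _ _

open K977.KsAbs K977.KsGeo K977.KsSec K311.Sec K140.BM K524.X1Fam K311.KE K890.KS
open Groth.Agent.LoccohB.SectLin303 K311.Bas
open scoped Groth.Agent.Dcoh.MonCat

section

variable {Y Z : Scheme.{u}} (f : Y ⟶ Z)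

theorem sec_comp {K F G : Y.Modules} (K' : Y.Modules) [ExactPairing K K'] (u : K ⟶ F) (g : F ⟶ G) :
    sec K K' (u ≫ g) = (g ▷ K').app ⊤ (sec K K' u) := by
  have h : K45.MonLift.cm K K' (u ≫ g) = K45.MonLift.cm K K' u ≫ g ▷ K' := by
    simp [K45.MonLift.cm]
  rw [sec, h]
  rfl

theorem sec_mate {K St Q : Y.Modules} [HasRightDual K] [HasRightDual St] (j : K ⟶ St) (h : St ⟶ Q) :
    sec K Kᘁ (j ≫ h) = (Q ◁ jᘁ).app ⊤ (sec St Stᘁ h) := by
  have e : K45.MonLift.cm K Kᘁ (j ≫ h) = K45.MonLift.cm St Stᘁ h ≫ Q ◁ jᘁ := by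
    rw [K45.MonLift.cm, K45.MonLift.cm, comp_whiskerRight, ← Category.assoc,
      ← coevaluation_comp_rightAdjointMate, Category.assoc, Category.assoc, whisker_exchange]
  rw [sec, e]
  rfl

theorem sec_add {K F : Y.Modules} (K' : Y.Modules) [ExactPairing K K'] (u v : K ⟶ F) :
    sec K K' (u + v) = sec K K' u + sec K K' v := by
  have h : K45.MonLift.cm K K' (u + v) = K45.MonLift.cm K K' u + K45.MonLift.cm K K' v := by
    simp only [K45.MonLift.cm, MonoidalPreadditive.add_whiskerRight, Preadditive.comp_add]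
  rw [sec, h]
  rfl

theorem sec_smul {K F : Y.Modules} (K' : Y.Modules) [ExactPairing K K'] (c : Γ(Y, ⊤)) (u : K ⟶ F) :
    sec K K' (c • u) = c • sec K K' u := by
  have h : K45.MonLift.cm K K' (c • u) = c • K45.MonLift.cm K K' u := by
    simp only [K45.MonLift.cm, smul_whiskerRight, Linear.comp_smul]
  rw [sec, h, smul_app_top]
  rfl

variable {K G V S Q St : Y.Modules} [HasRightDual K] [HasRightDual G] [HasRightDual V] [HasRightDual S]
  [HasRightDual Q] [HasRightDual St]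

/-- **The Kodaira-Spencer map on homomorphisms.** -/
theorem exists_kappa [IsAffine Z] [QuasiCompact f] [QuasiSeparated f]
    (hR2 : ∀ M : Y.Modules, Coh.IsQCoh M → IsZero (((DF f).F 2).obj M))
    {α : K ⟶ G} {π : G ⟶ V} {wα : α ≫ π = 0} (hα : (ShortComplex.mk α π wα).ShortExact)
    {i : S ⟶ V} {q : V ⟶ Q} {wi : i ≫ q = 0} (hi : (ShortComplex.mk i q wi).ShortExact)
    (hKi : PicF.IsInvertible K) (hK : FlatMod.IsFinLocFree K) (hG : FlatMod.IsFinLocFree G)
    (hV : FlatMod.IsFinLocFree V) (hS : FlatMod.IsFinLocFree S) (hQ : FlatMod.IsFinLocFree Q)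
    {s : St ⟶ G} {p : St ⟶ S} {j : K ⟶ St} {wj : j ≫ p = 0}
    (hj : (ShortComplex.mk j p wj).ShortExact) (hjs : j ≫ s = α) (hsp : s ≫ π = p ≫ i)
    (hSt : FlatMod.IsFinLocFree St) (htr : Epi (tr S)) (h1V : IsZero (((DF f).F 1).obj (V ⊗ Gᘁ))) :
    ∃ κ : (K ⟶ G) →+ Γ(((DF f).F 1).obj (Q ⊗ Sᘁ), (⊤ : Z.Opens)), Function.Surjective κ ∧
      (∀ (c : Γ(Z, ⊤)) (u : K ⟶ G), κ (f.appTop c • u) = c • κ u) ∧
      ∀ (u : K ⟶ G) (h : St ⟶ Q), j ≫ h = u ≫ π ≫ q → κ u = 0 := by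
  have hE := shortExact_E hj hK hS Q
  have h1 := epi_geo f hR2 hα hi hKi hK hG hV hS hQ hj hjs hsp hSt htr h1V
  refine ⟨AddMonoidHom.mk' (fun u => conn f hE (sec K Kᘁ (u ≫ π ≫ q))) fun u v => ?_, fun z => ?_, fun c u => ?_,
    fun u h e => ?_⟩
  · rw [Preadditive.add_comp, sec_add]
    exact (conn f hE).map_add _ _
  · obtain ⟨t, ht⟩ := conn_surjective f hE ((π ≫ q) ▷ Kᘁ) h1 (qcoh_tensor hG (isFinLocFree_dual hK))
      (qcoh_tensor hQ (isFinLocFree_dual hS)) z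
    obtain ⟨u, rfl⟩ := (bijective_sec K Kᘁ G).2 t
    exact ⟨u, (congrArg (conn f hE) (sec_comp Kᘁ u (π ≫ q))).trans ht⟩
  · change conn f hE (sec K Kᘁ ((f.appTop c • u) ≫ π ≫ q)) = _
    rw [Linear.smul_comp, sec_smul]
    exact conn_smul f hE c _
  · change conn f hE (sec K Kᘁ (u ≫ π ≫ q)) = _
    rw [← e, sec_mate]
    exact conn_app f hE _

end

section rank

variable {Y : Scheme.{u}}

/-- Tensoring with a finite locally free module of positive rank is faithful. -/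
theorem isZero_of_tensor {n : ℕ} (hn : 0 < n) {S C : Y.Modules} (hS : FlatMod.IsFinLocFreeOfRank n S)
    (h : IsZero (S ⊗ C)) : IsZero C := by
  refine Groth.Agent.PerfA.Restrict.isZero_of_restrict_opens _ fun x => ?_
  obtain ⟨U, hx, ⟨e⟩⟩ := hS x
  refine ⟨U, hx, ?_⟩
  have h1 : IsZero ((CohB1.tensorMod S C).restrict U.ι) := (Scheme.Modules.restrictFunctor U.ι).map_isZero h
  have h2 : IsZero (CohB1.tensorMod (S.restrict U.ι) (C.restrict U.ι)) :=
    h1.of_iso (Groth.Agent.Ega1.TensorRestrict.tensorRestrictIso U.ι S C)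
  let e' : (FlatMod.freeMod (U : Scheme.{u}) n) ⊗ (C.restrict U.ι) ≅ (S.restrict U.ι) ⊗ (C.restrict U.ι) :=
    whiskerRightIso e.symm (C.restrict U.ι)
  have h2' : IsZero ((S.restrict U.ι) ⊗ (C.restrict U.ι)) := h2
  have h3 : IsZero ((FlatMod.freeMod (U : Scheme.{u}) n) ⊗ (C.restrict U.ι)) := h2'.of_iso e'
  let i₀ : 𝟙_ (U : Scheme.{u}).Modules ⟶ FlatMod.freeMod (U : Scheme.{u}) n :=
    Sigma.ι (fun _ : Fin n => Coh.structureModule (U : Scheme.{u})) ⟨0, hn⟩
  let r₀ : FlatMod.freeMod (U : Scheme.{u}) n ⟶ 𝟙_ (U : Scheme.{u}).Modules := Sigma.desc fun _ => 𝟙 _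
  have h4 : i₀ ≫ r₀ = 𝟙 _ := Sigma.ι_desc _ _
  rw [IsZero.iff_id_eq_zero]
  have h5 : 𝟙 (C.restrict U.ι) = (λ_ _).inv ≫ (i₀ ▷ C.restrict U.ι ≫ r₀ ▷ C.restrict U.ι) ≫ (λ_ _).hom := by
    rw [← comp_whiskerRight, h4, id_whiskerRight, Category.id_comp, Iso.inv_hom_id]
  rw [h5, h3.eq_of_tgt (i₀ ▷ C.restrict U.ι) 0, zero_comp, zero_comp, comp_zero]

theorem isZero_of_rank_zero {S : Y.Modules} (hS : FlatMod.IsFinLocFreeOfRank 0 S) : IsZero S := by
  refine Groth.Agent.PerfA.Restrict.isZero_of_restrict_opens _ fun x => ?_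
  obtain ⟨U, hx, ⟨e⟩⟩ := hS x
  refine ⟨U, hx, IsZero.of_iso ?_ e⟩
  rw [IsZero.iff_id_eq_zero]
  exact Sigma.hom_ext _ _ fun i => i.elim0

/-- The contraction of a finite locally free module of positive rank is an epimorphism. -/
theorem epi_tr {n : ℕ} (hn : 0 < n) {S : Y.Modules} [HasRightDual S] (hS : FlatMod.IsFinLocFreeOfRank n S) :
    Epi (tr S) := by
  have h1 : Epi (ε_ S Sᘁ) := by
    refine Preadditive.epi_of_isZero_cokernel _ (isZero_of_tensor hn hS ?_)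
    have h0 := Groth.Agent.Dcoh.ProjFLF.preservesHomology_tensorLeft S Sᘁ
    have h2 : Epi (S ◁ cokernel.π (ε_ S Sᘁ)) :=
      inferInstanceAs (Epi ((tensorLeft S).map (cokernel.π (ε_ S Sᘁ))))
    have h3 : Epi (S ◁ ε_ S Sᘁ) := by
      have h4 : η_ S Sᘁ ▷ S ≫ (α_ _ _ _).hom ≫ S ◁ ε_ S Sᘁ = (λ_ S).hom ≫ (ρ_ S).inv :=
        ExactPairing.evaluation_coevaluation S Sᘁ
      have h5 : Epi ((η_ S Sᘁ ▷ S ≫ (α_ _ _ _).hom) ≫ S ◁ ε_ S Sᘁ) := by
        rw [Category.assoc, h4]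
        infer_instance
      exact epi_of_epi (η_ S Sᘁ ▷ S ≫ (α_ _ _ _).hom) (S ◁ ε_ S Sᘁ)
    have h6 : S ◁ cokernel.π (ε_ S Sᘁ) = 0 := by
      rw [← cancel_epi (S ◁ ε_ S Sᘁ), ← MonoidalCategory.whiskerLeft_comp, cokernel.condition,
        MonoidalPreadditive.whiskerLeft_zero, comp_zero]
    exact IsZero.of_epi_eq_zero _ h6
  rw [tr]
  infer_instance

end rank

/-- `H^n = 0` implies `R^n f_* = 0` over an affine base. -/
theorem isZero_Rpush {Y Z : Scheme.{u}} (f : Y ⟶ Z) [IsAffine Z] [QuasiCompact f] [QuasiSeparated f]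
    [HasInjectiveResolutions Y.Modules] {F : Y.Modules} (hF : Coh.IsQCoh F) (n : ℕ)
    (h : Subsingleton (Coh.HH Y F n)) : IsZero ((Coh.Rpush f n).obj F) := by
  obtain ⟨e, -, -⟩ := Groth.Agent.LoccohB.TopRepSec.exists_isCmp f F (fun p m hm =>
    Groth.Agent.Ega3B.RpushAff.subsingleton_HHon _
      (Groth.Agent.CohqA.RelCoh.isQCoh_Rpush f F hF p) (isAffineOpen_top Z) m hm) n
  refine Groth.Agent.Ega3B.RpushAff.isZero_of_cover _ (Groth.Agent.CohqA.RelCoh.isQCoh_Rpush f F hF n)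
    (fun _ : Unit => (⊤ : Z.Opens)) (fun _ => isAffineOpen_top Z) (by simp) fun _ => e.toEquiv.subsingleton

variable {k : Type u} [Field k] {X : Scheme.{u}} [X.Over (Spec (CommRingCat.of k))]

theorem isZero_R2 [IsProper (st k X)] (hdim : topologicalKrullDim X ≤ 1) (T : Over (B0 k))
    [IsLocallyNoetherian T.left] (M : (PicF.XT (st k X) T).Modules) (hM : Coh.IsQCoh M) :
    IsZero (((DF (PicF.XTproj (st k X) T)).F 2).obj M) := by
  have := enoughInjectives (PicF.XT (st k X) T)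
  exact K785.FMBound.isZero_Rpush_of_dim (PicF.XTproj (st k X) T) 1 (K54.Theta.fibre_dim hdim T) M hM 2 (by norm_num)

section fam

variable {K G : X.Modules} {M : ℕ} (e : Fin M → (K ⟶ G)) (A : Type u) [CommRing A] [Algebra k A]

theorem ueA_add (v w : Fin M → A) : ueA (k := k) e A (v + w) = ueA (k := k) e A v + ueA (k := k) e A w := by
  have h : (fun i => fn k ((v + w) i)) = (fun i => fn k (v i)) + fun i => fn k (w i) :=
    funext fun i => map_add _ _ _
  change uu e (SpA k A) (fun i => fn k ((v + w) i)) = _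
  rw [h]
  exact K763.HSpan.uu_add e (SpA k A) _ _

theorem ueA_smul (a : A) (v : Fin M → A) :
    ueA (k := k) e A (a • v) = fT k X (SpA k A) (fn k a) • ueA (k := k) e A v := by
  have h : (fun i => fn k ((a • v) i)) = fun i => fn k a * fn k (v i) :=
    funext fun i => map_mul _ _ _
  change uu e (SpA k A) (fun i => fn k ((a • v) i)) = _
  rw [h]
  exact K763.HSpan.uu_smul e (SpA k A) _ _

theorem connectedSpace_XT [UniversallyOpen (st k X)] [GeometricallyConnected (st k X)] [IsDomain A] :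
    ConnectedSpace ↥(PicF.XT (st k X) (SpA k A)) := by
  have : IsIntegral (SpA k A).left := inferInstanceAs (IsIntegral (Spec (CommRingCat.of A)))
  have : ConnectedSpace ↥(SpA k A).left := inferInstance
  exact inferInstanceAs (ConnectedSpace ↥(pullback (st k X) (SpA k A).hom))

variable {e A} in
/-- **(KSMAIN)** -/
theorem ksMain_core [IsProper (st k X)] (hdim : topologicalKrullDim X ≤ 1) [IsNoetherianRing A]
    [ConnectedSpace ↥(PicF.XT (st k X) (SpA k A))]
    (hK : PicF.IsInvertible K) (hG : FlatMod.IsFinLocFree G) (G' : X.Modules) [ExactPairing G G'] (c : Fin M → A)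
    (hV : FlatMod.IsFinLocFree (VA (k := k) e A c)) (hm : Mono (ueA (k := k) e A c))
    (h1 : Subsingleton (Coh.HH (PicF.XT (st k X) (SpA k A))
      (CohB1.tensorMod (VA (k := k) e A c) (cst k (SpA k A) G')) 1))
    (hspan : ∀ φ : cst k (SpA k A) K ⟶ cst k (SpA k A) G, ∃ v : Fin M → A, φ = ueA (k := k) e A v)
    (hkill : KSKill (k := k) e A c) : KSMain (k := k) e A c := by
  intro S Q i q wi hi hS hQ
  let Y := PicF.XT (st k X) (SpA k A)
  let f := PicF.XTproj (st k X) (SpA k A)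
  have i1 : IsAffine (SpA k A).left := inferInstanceAs (IsAffine (Spec (CommRingCat.of A)))
  have i2 : IsLocallyNoetherian (SpA k A).left :=
    inferInstanceAs (IsLocallyNoetherian (Spec (CommRingCat.of A)))
  have i3 : IsProper f := inferInstanceAs (IsProper (pullback.snd (st k X) (SpA k A).hom))
  have i4 := enoughInjectives Y
  have hq : Epi q := hi.epi_g
  have hKi : PicF.IsInvertible (cst k (SpA k A) K) := Groth.Agent.Fdesc.LocGen.isInvertible_pullback _ hK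
  have hKf : FlatMod.IsFinLocFree (cst k (SpA k A) K) := fun x => by
    obtain ⟨U, hx, h⟩ := Groth.Agent.Ega2.QCohLocal.isFinLocFreeOfRank_one_iff.2 hKi x
    exact ⟨U, 1, hx, h⟩
  have hGf : FlatMod.IsFinLocFree (cst k (SpA k A) G) := K54.Theta.isFinLocFree_cst (SpA k A) hG
  -- duals
  let p1 : ExactPairing (cst k (SpA k A) G) (cst k (SpA k A) G') :=
    letI := Groth.Agent.Dcoh.MonPull.monPull (pullback.fst (st k X) (SpA k A).hom)
    Groth.Agent.Dcoh.MonDual.mapExactPairing (Scheme.Modules.pullback (pullback.fst (st k X) (SpA k A).hom)) G G'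
  let r1 : HasRightDual (cst k (SpA k A) G) := ⟨cst k (SpA k A) G'⟩
  obtain ⟨K', ⟨p2⟩⟩ := Groth.Agent.Dcoh.DualFLF.exists_exactPairing hKf
  let r2 : HasRightDual (cst k (SpA k A) K) := ⟨K'⟩
  obtain ⟨V', ⟨p3⟩⟩ := Groth.Agent.Dcoh.DualFLF.exists_exactPairing hV
  let r3 : HasRightDual (VA (k := k) e A c) := ⟨V'⟩
  obtain ⟨S', ⟨p4⟩⟩ := Groth.Agent.Dcoh.DualFLF.exists_exactPairing hS
  let r4 : HasRightDual S := ⟨S'⟩
  obtain ⟨Q', ⟨p5⟩⟩ := Groth.Agent.Dcoh.DualFLF.exists_exactPairing hQ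
  let r5 : HasRightDual Q := ⟨Q'⟩
  -- exact sequences
  have wα : ueA (k := k) e A c ≫ πA (k := k) e A c = 0 := cokernel.condition _
  have hα : (ShortComplex.mk (ueA (k := k) e A c) (πA (k := k) e A c) wα).ShortExact :=
    { exact := ShortComplex.exact_of_g_is_cokernel _ (cokernelIsCokernel _)
      mono_f := hm
      epi_g := inferInstanceAs (Epi (cokernel.π (ueA (k := k) e A c))) }
  have w : ueA (k := k) e A c ≫ πA (k := k) e A c ≫ q = 0 := by
    rw [← Category.assoc, wα, zero_comp]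
  obtain ⟨p, wj, hj, hsp⟩ := exists_st hα hi w
  have hπ : Epi (πA (k := k) e A c) := hα.epi_g
  have hSt : FlatMod.IsFinLocFree (kernel (πA (k := k) e A c ≫ q)) :=
    Groth.Agent.Dcoh.Spread.isFinLocFree_of_isLimit_kernelFork hGf hQ _ (πA (k := k) e A c ≫ q)
      (kernel.condition _) (kernelIsKernel _)
  obtain ⟨St', ⟨p6⟩⟩ := Groth.Agent.Dcoh.DualFLF.exists_exactPairing hSt
  let r6 : HasRightDual (kernel (πA (k := k) e A c ≫ q)) := ⟨St'⟩
  have hG' : FlatMod.IsFinLocFree (cst k (SpA k A) G') := isFinLocFree_dual hGf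
  have h1V : IsZero (((DF f).F 1).obj (VA (k := k) e A c ⊗ (cst k (SpA k A) G)ᘁ)) :=
    isZero_Rpush f (qcoh_tensor hV hG') 1 h1
  -- the target
  let ψ : Q ⊗ Sᘁ ≅ CohB1.tensorMod (RefHull.dual S) Q :=
    β_ Q Sᘁ ≪≫ whiskerRightIso (K921.PullDual.dualIso S Sᘁ).symm Q
  let Ψ : ((DF f).F 1).obj (Q ⊗ Sᘁ) ≅ (Coh.Rpush f 1).obj (CohB1.tensorMod (RefHull.dual S) Q) :=
    (Coh.Rpush f 1).mapIso ψ
  obtain ⟨n, hn⟩ := Groth.Agent.Krr.H495.Rank.exists_rank_of_connected hS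
  rcases Nat.eq_zero_or_pos n with rfl | hpos
  · have hS0 : IsZero S := isZero_of_rank_zero hn
    have hS1 : IsZero Sᘁ := by
      rw [IsZero.iff_id_eq_zero, ← rightAdjointMate_id, hS0.eq_of_src (𝟙 S) 0, mate_zero]
    have hS2 : IsZero (Q ⊗ Sᘁ) := by
      rw [IsZero.iff_id_eq_zero, ← MonoidalCategory.whiskerLeft_id, hS1.eq_of_src (𝟙 Sᘁ) 0,
        MonoidalPreadditive.whiskerLeft_zero]
    have hS3 : IsZero ((Coh.Rpush f 1).obj (CohB1.tensorMod (RefHull.dual S) Q)) :=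
      (Coh.Rpush f 1).map_isZero (hS2.of_iso ψ.symm)
    have hS4 : Subsingleton (R1 (k := k) A (CohB1.tensorMod (RefHull.dual S) Q)) :=
      Groth.Agent.Ega3B.RpushAff.subsingleton_sections_of_isZero hS3 ⊤
    exact ⟨0, fun z => ⟨0, Subsingleton.elim _ _⟩, fun _ _ => Subsingleton.elim _ _, fun _ => rfl⟩
  obtain ⟨κ, h2, h3, h4⟩ := exists_kappa f (isZero_R2 hdim (SpA k A)) hα hi hKi hKf hGf hV hS hQ hj
    (kernel.lift_ι _ _ _) hsp hSt (epi_tr hpos hn) h1V
  let E : Γ(((DF f).F 1).obj (Q ⊗ Sᘁ), (⊤ : (SpA k A).left.Opens)) →+ R1 (k := k) A (CohB1.tensorMod (RefHull.dual S) Q) :=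
    (Ψ.hom.app ⊤).hom
  have hE : Function.Surjective E := by
    intro z
    refine ⟨Ψ.inv.app ⊤ z, ?_⟩
    exact congrArg (fun φ : (Coh.Rpush f 1).obj (CohB1.tensorMod (RefHull.dual S) Q) ⟶
      (Coh.Rpush f 1).obj (CohB1.tensorMod (RefHull.dual S) Q) => φ.app ⊤ z) Ψ.inv_hom_id
  have hE' : ∀ (c : Γ((SpA k A).left, ⊤)) t, E (c • t) = c • E t := fun c t =>
    (Groth.Agent.Sga67.Sec.appS Ψ.hom ⊤).map_smul c t
  refine ⟨AddMonoidHom.mk' (fun v => E (κ (ueA (k := k) e A v))) fun v w => ?_, fun z => ?_, fun a v => ?_,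
    fun δ => ?_⟩
  · rw [ueA_add, map_add, map_add]
  · obtain ⟨t, rfl⟩ := hE z
    obtain ⟨φ, rfl⟩ := h2 t
    obtain ⟨v, rfl⟩ := hspan φ
    exact ⟨v, rfl⟩
  · change E (κ (ueA (k := k) e A (a • v))) = _
    rw [ueA_smul]
    exact (congrArg E (h3 (fn k a) _)).trans (hE' _ _)
  · obtain ⟨h, hh⟩ := hkill Q q hq hQ δ
    change E (κ (ueA (k := k) e A fun i => δ (c i))) = 0
    exact (congrArg E (h4 _ h hh)).trans (map_zero E)

end fam

/-- **(KSMAIN)** for geometrically connected `X`, all hypotheses on the family discharged. -/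
theorem ksMain [IsProper (st k X)] [GeometricallyConnected (st k X)] (hdim : topologicalKrullDim X ≤ 1)
    {K G : X.Modules} {M : ℕ} (e : Fin M → (K ⟶ G)) (hK : PicF.IsInvertible K) (hG : FlatMod.IsFinLocFree G)
    (G' : X.Modules) (hGG : Nonempty (ExactPairing G G')) (he : ∀ u : K ⟶ G, ∃ a : Fin M → k, u = ua e a)
    (A : Type u) [CommRing A] [IsNoetherianRing A] [IsDomain A] [Algebra k A] (c : Fin M → A)
    (hV : FlatMod.IsFinLocFree (VA (k := k) e A c)) (hm : Mono (ueA (k := k) e A c))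
    (h1 : Subsingleton (Coh.HH (PicF.XT (st k X) (SpA k A))
      (CohB1.tensorMod (VA (k := k) e A c) (cst k (SpA k A) G')) 1)) : KSMain (k := k) e A c := by
  obtain ⟨p⟩ := hGG
  have i1 : ConnectedSpace ↥(PicF.XT (st k X) (SpA k A)) := connectedSpace_XT A
  have hKf : FlatMod.IsFinLocFree K := fun x => by
    obtain ⟨U, hx, h⟩ := Groth.Agent.Ega2.QCohLocal.isFinLocFreeOfRank_one_iff.2 hK x
    exact ⟨U, 1, hx, h⟩
  exact ksMain_core hdim hK hG G' c hV hm h1 (fun φ => K763.HSpan.hspan e hKf hG he A φ) (K763.KS.ksKill e A c)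

/-- **(KSMAIN)** for the data of a versal family. -/
theorem ks [IsProper (st k X)] [GeometricallyConnected (st k X)] (hdim : topologicalKrullDim X ≤ 1) {r m : ℕ}
    {N D₀ : X.Modules} (D : K276.Data k X r m N D₀) (A : Type u) [CommRing A] [IsNoetherianRing A] [IsDomain A]
    [Algebra k A] (c : Fin D.M → A) (hV : FlatMod.IsFinLocFreeOfRank (r + m) (VA (k := k) D.e A c))
    (hm : Mono (ueA (k := k) D.e A c))
    (h1 : Subsingleton (Coh.HH (PicF.XT (st k X) (SpA k A))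
      (CohB1.tensorMod (VA (k := k) D.e A c) (cst k (SpA k A) D.G')) 1)) : KSMain (k := k) D.e A c :=
  ksMain hdim D.e (Groth.Agent.Ega2.QCohLocal.isFinLocFreeOfRank_one_iff.1 D.hK)
    (fun x => (D.hG x).elim fun U h => ⟨U, _, h.1, h.2⟩) D.G' D.pair D.span A c
    (fun x => (hV x).elim fun U h => ⟨U, _, h.1, h.2⟩) hm h1

end K977.KsMain
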