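import Groth.Agent.Sga3B.RG.Nullst
import Groth.Agent.Etalg.NormalDvr
import Mathlib.LinearAlgebra.Matrix.Adjugate
import Mathlib.LinearAlgebra.Matrix.ToLinearEquiv

/-!
# Radicality of a determinant from surjectivity of its tangent maps

`k` is an algebraically closed field, `R` a normal domain of finite type over `k` and `M` a square
matrix over `R`.  Suppose that for every `k`-point `z` and every nonzero `s` in the kernel of `M(z)`
the map `v ↦ (∂_v M) s` from the tangent space at `z` to the cokernel of `M(z)` is surjective.  Then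
`det M` is nonzero and generates a radical ideal.

* `K977.DetRad.Tan`: tangent vectors at a `k`-point.
* `K977.DetRad.Surj`: the hypothesis.
* `K977.DetRad.det_ne_zero`, `K977.DetRad.isRadical`.
-/

set_option autoImplicit false

namespace K977.DetRad

universe u v

variable {k : Type u} [Field k] {R : Type v} [CommRing R] [Algebra k R]

/-- A tangent vector at the `k`-point `z`: a `k`-linear map satisfying the Leibniz rule. -/
structure Tan (z : R →ₐ[k] k) where
  /-- the underlying linear map -/
  f : R →ₗ[k] k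
  leib : ∀ a b, f (a * b) = z a * f b + z b * f a

variable {z : R →ₐ[k] k}

/-- A tangent vector kills products of elements vanishing at the point. -/
theorem Tan.map_mul_zero (v : Tan z) {a b : R} (ha : z a = 0) (hb : z b = 0) : v.f (a * b) = 0 := by
  rw [v.leib, ha, hb, zero_mul, zero_mul, add_zero]

/-- A tangent vector kills the square of an ideal contained in the kernel. -/
theorem Tan.sq_eq_zero (v : Tan z) {q : Ideal R} (hq : ∀ a ∈ q, z a = 0) {a : R}
    (ha : a ∈ q ^ 2) : v.f a = 0 := by
  rw [pow_two] at ha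
  refine Submodule.mul_induction_on ha (fun x hx y hy => v.map_mul_zero (hq x hx) (hq y hy)) ?_
  intro x y hx hy
  rw [map_add, hx, hy, add_zero]

/-- If `g * a` is a multiple of `π`, `z g ≠ 0`, `z a = 0`, `z π = 0` and `v π = 0`, then `v a = 0`. -/
theorem Tan.eq_zero_of_mul (v : Tan z) {g a π b : R} (h : g * a = π * b) (hg : z g ≠ 0)
    (ha : z a = 0) (hπ : z π = 0) (hvπ : v.f π = 0) : v.f a = 0 := by
  have h1 := congrArg v.f h
  rw [v.leib, v.leib, ha, hπ, hvπ, zero_mul, zero_mul, mul_zero, add_zero, add_zero] at h1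
  exact (_root_.mul_eq_zero.1 h1).resolve_left hg

variable {ι : Type*} [Fintype ι]

open Matrix

/-- The product rule for `M *ᵥ s`. -/
theorem Tan.mulVec (v : Tan z) (M : Matrix ι ι R) (s : ι → R) (i : ι) :
    v.f ((M *ᵥ s) i) = (M.map z *ᵥ (fun j => v.f (s j))) i + (M.map v.f *ᵥ (fun j => z (s j))) i := by
  simp only [Matrix.mulVec, dotProduct, map_sum, Matrix.map_apply]
  rw [← Finset.sum_add_distrib]
  refine Finset.sum_congr rfl fun j _ => ?_
  rw [v.leib, mul_comm (z (s j))]

theorem map_mulVec (M : Matrix ι ι R) (s : ι → R) (i : ι) :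
    (M.map z *ᵥ (fun j => z (s j))) i = z ((M *ᵥ s) i) := by
  simp only [Matrix.mulVec, dotProduct, map_sum, Matrix.map_apply, map_mul]

variable [DecidableEq ι]

/-- The hypothesis: at every `k`-point and for every nonzero kernel vector the derivative of `M` is
onto the cokernel. -/
def Surj (k : Type u) [Field k] {R : Type v} [CommRing R] [Algebra k R] (M : Matrix ι ι R) : Prop :=
  ∀ (z : R →ₐ[k] k) (s : ι → k), s ≠ 0 → M.map z *ᵥ s = 0 → ∀ t : ι → k,
    ∃ (v : Tan z) (w : ι → k), M.map v.f *ᵥ s + M.map z *ᵥ w = t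

/-- A square matrix over a field with a nonzero kernel vector is not surjective. -/
theorem not_surj {K : Type*} [Field K] (A : Matrix ι ι K) {s : ι → K} (hs : s ≠ 0)
    (h : A *ᵥ s = 0) : ∃ t : ι → K, ∀ w, A *ᵥ w ≠ t := by
  by_contra hc
  push Not at hc
  have h1 : Function.Surjective A.mulVec := hc
  rw [Matrix.mulVec_surjective_iff_isUnit, ← Matrix.mulVec_injective_iff_isUnit] at h1
  exact hs (h1 (by rw [h, Matrix.mulVec_zero]))

/-- If the image of `A` and one more vector span everything and `A` has a nonzero kernel vector, the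
adjugate of `A` is nonzero. -/
theorem adjugate_ne_zero {K : Type*} [Field K] (A : Matrix ι ι K) {s : ι → K} (hs : s ≠ 0)
    (h : A *ᵥ s = 0) (t₀ : ι → K) (ht : ∀ y : ι → K, ∃ (x : ι → K) (c : K), A *ᵥ x + c • t₀ = y) :
    A.adjugate ≠ 0 := by
  intro h0
  obtain ⟨i, hi⟩ : ∃ i, s i ≠ 0 := by
    by_contra hc
    push Not at hc
    exact hs (funext hc)
  have hdet : (A.updateCol i t₀).det = 0 := by
    have h1 : A.cramer t₀ i = 0 := by rw [Matrix.cramer_eq_adjugate_mulVec, h0, Matrix.zero_mulVec]; rfl
    rwa [Matrix.cramer_apply] at h1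
  have hunit : IsUnit (A.updateCol i t₀) := by
    rw [← Matrix.mulVec_surjective_iff_isUnit]
    intro y
    obtain ⟨x, c, hx⟩ := ht y
    have hx' : A *ᵥ (x - (x i / s i) • s) = A *ᵥ x := by
      rw [Matrix.mulVec_sub, Matrix.mulVec_smul, h, smul_zero, sub_zero]
    refine ⟨Function.update (x - (x i / s i) • s) i c, ?_⟩
    rw [← hx, ← hx']
    funext l
    simp only [Matrix.mulVec, dotProduct, Pi.add_apply, Pi.smul_apply, smul_eq_mul]
    rw [← Finset.add_sum_erase _ _ (Finset.mem_univ i),
      ← Finset.add_sum_erase (a := i) (s := Finset.univ)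
        (f := fun j => A l j * (x - (x i / s i) • s) j) (Finset.mem_univ i)]
    rw [Matrix.updateCol_self, Function.update_self]
    have h2 : (x - (x i / s i) • s) i = 0 := by
      simp only [Pi.sub_apply, Pi.smul_apply, smul_eq_mul]
      rw [div_mul_cancel₀ _ hi, sub_self]
    rw [h2, mul_zero, zero_add, mul_comm (t₀ l) c, add_comm]
    congr 1
    refine Finset.sum_congr rfl fun j hj => ?_
    rw [Matrix.updateCol_ne (Finset.ne_of_mem_erase hj), Function.update_of_ne (Finset.ne_of_mem_erase hj)]
  rw [Matrix.isUnit_iff_isUnit_det, hdet] at hunit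
  exact not_isUnit_zero hunit

/-- If `M s` has coordinates in an ideal killed by all tangent vectors, the hypothesis is violated. -/
theorem Surj.false_of_kill {M : Matrix ι ι R} (H : Surj k M) (z : R →ₐ[k] k) (s : ι → R)
    (hs : (fun j => z (s j)) ≠ 0) (hz : ∀ i, z ((M *ᵥ s) i) = 0)
    (hv : ∀ (v : Tan z) (i : ι), v.f ((M *ᵥ s) i) = 0) : False := by
  have h0 : M.map z *ᵥ (fun j => z (s j)) = 0 := by
    funext i
    rw [map_mulVec, hz]
    rfl
  obtain ⟨t, ht⟩ := not_surj (M.map z) hs h0
  obtain ⟨v, w, hvw⟩ := H z _ hs h0 t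
  refine ht (w - (fun j => v.f (s j))) ?_
  rw [← hvw, Matrix.mulVec_sub]
  funext i
  have h1 := hv v i
  rw [v.mulVec] at h1
  simp only [Pi.sub_apply, Pi.add_apply]
  linear_combination -h1

/-- At a point where the tangent vectors killing `π` kill `M s`, the adjugate does not vanish. -/
theorem Surj.adjugate_ne_zero {M : Matrix ι ι R} (H : Surj k M) (z : R →ₐ[k] k) (s : ι → R)
    (hs : (fun j => z (s j)) ≠ 0) (hz : ∀ i, z ((M *ᵥ s) i) = 0) (π : R)
    (hv : ∀ (v : Tan z), v.f π = 0 → ∀ i : ι, v.f ((M *ᵥ s) i) = 0) :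
    (M.map z).adjugate ≠ 0 := by
  have h0 : M.map z *ᵥ (fun j => z (s j)) = 0 := by
    funext i
    rw [map_mulVec, hz]
    rfl
  by_cases hπ : ∃ v₀ : Tan z, v₀.f π ≠ 0
  · obtain ⟨v₀, hv₀⟩ := hπ
    refine K977.DetRad.adjugate_ne_zero (M.map z) hs h0 (M.map v₀.f *ᵥ fun j => z (s j)) fun y => ?_
    obtain ⟨v, w, hvw⟩ := H z _ hs h0 y
    -- the combination `v - c v₀` kills `π`
    let c : k := v.f π / v₀.f π
    let v' : Tan z := ⟨v.f - c • v₀.f, fun a b => by
      simp only [LinearMap.sub_apply, LinearMap.smul_apply, smul_eq_mul, v.leib, v₀.leib]; ring⟩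
    have hv' : v'.f π = 0 := by
      change v.f π - c * v₀.f π = 0
      rw [div_mul_cancel₀ _ hv₀, sub_self]
    refine ⟨w - (fun j => v'.f (s j)), c, ?_⟩
    rw [← hvw, Matrix.mulVec_sub]
    funext i
    have h1 := hv v' hv' i
    rw [v'.mulVec] at h1
    have h2 : (M.map v'.f *ᵥ fun j => z (s j)) i =
        (M.map v.f *ᵥ fun j => z (s j)) i - c * (M.map v₀.f *ᵥ fun j => z (s j)) i := by
      simp only [Matrix.mulVec, dotProduct, Matrix.map_apply]
      rw [Finset.mul_sum, ← Finset.sum_sub_distrib]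
      refine Finset.sum_congr rfl fun j _ => ?_
      change (v.f (M i j) - c * v₀.f (M i j)) * _ = _
      ring
    simp only [Pi.sub_apply, Pi.add_apply, Pi.smul_apply, smul_eq_mul]
    rw [h2] at h1
    linear_combination -h1
  · push Not at hπ
    exact (H.false_of_kill z s hs hz fun v i => hv v (hπ v) i).elim

variable [IsAlgClosed k] [Algebra.FiniteType k R] [IsDomain R]

open Groth.Agent.Sga3B.RG

/-- The determinant is nonzero. -/
theorem det_ne_zero {M : Matrix ι ι R} (H : Surj k M) : M.det ≠ 0 := by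
  intro h0
  obtain ⟨s, hs, hMs⟩ := Matrix.exists_mulVec_eq_zero_iff.2 h0
  obtain ⟨i, hi⟩ : ∃ i, s i ≠ 0 := by
    by_contra hc
    push Not at hc
    exact hs (funext hc)
  obtain ⟨z, hz⟩ := exists_algHom_ne_zero (K := k) hi
  refine H.false_of_kill z s (fun h => hz (congrFun h i)) (fun i => ?_) (fun v i => ?_)
  · rw [hMs]
    exact map_zero z
  · rw [hMs]
    exact map_zero v.f

/-- A uniform local generator of a prime whose local ring is a discrete valuation ring. -/
theorem exists_gen [IsNoetherianRing R] (q : Ideal R)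
    [q.IsPrime] [IsDiscreteValuationRing (Localization.AtPrime q)] :
    ∃ π ∈ q, ∃ g ∉ q, ∀ a ∈ q, ∃ b, g * a = π * b := by
  classical
  obtain ⟨ϖ, hϖ⟩ := IsDiscreteValuationRing.exists_irreducible (Localization.AtPrime q)
  have hmax := hϖ.maximalIdeal_eq
  obtain ⟨π, s, hπs⟩ := IsLocalization.exists_mk'_eq q.primeCompl ϖ
  have hmax' : IsLocalRing.maximalIdeal (Localization.AtPrime q) =
      Ideal.span {algebraMap R (Localization.AtPrime q) π} := by
    rw [hmax, ← hπs]
    refine Ideal.span_singleton_eq_span_singleton.2 ?_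
    refine ⟨(IsLocalization.map_units (Localization.AtPrime q) s).unit, ?_⟩
    exact IsLocalization.mk'_spec _ _ _
  have hπq : π ∈ q := by
    have h1 : algebraMap R (Localization.AtPrime q) π ∈
        IsLocalRing.maximalIdeal (Localization.AtPrime q) := by
      rw [hmax']; exact Ideal.mem_span_singleton_self _
    exact (IsLocalization.AtPrime.to_map_mem_maximal_iff (Localization.AtPrime q) q π).1 h1
  -- for each element
  have h1 : ∀ a ∈ q, ∃ g ∉ q, ∃ b, g * a = π * b := by
    intro a ha
    have h2 : algebraMap R (Localization.AtPrime q) a ∈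
        IsLocalRing.maximalIdeal (Localization.AtPrime q) :=
      (IsLocalization.AtPrime.to_map_mem_maximal_iff (Localization.AtPrime q) q a).2 ha
    rw [hmax', Ideal.mem_span_singleton'] at h2
    obtain ⟨x, hx⟩ := h2
    obtain ⟨b, s, rfl⟩ := IsLocalization.exists_mk'_eq q.primeCompl x
    refine ⟨s, s.2, b, ?_⟩
    apply IsLocalization.injective (Localization.AtPrime q) q.primeCompl_le_nonZeroDivisors
    rw [map_mul, map_mul, ← hx, mul_comm (algebraMap R _ π), mul_comm (algebraMap R _ (s : R)),
      mul_right_comm, IsLocalization.mk'_spec]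
  -- uniformly
  obtain ⟨S, hS⟩ := (isNoetherian_def.1 (inferInstance : IsNoetherian R R)) q
  have h2 : ∀ x ∈ S, ∃ g ∉ q, ∃ b, g * x = π * b := fun x hx =>
    h1 x (hS ▸ Submodule.subset_span hx)
  choose! G hG B hB using h2
  refine ⟨π, hπq, ∏ x ∈ S, G x, ?_, ?_⟩
  · exact fun h => by
      obtain ⟨x, hx, hxq⟩ := (Ideal.IsPrime.prod_mem_iff).1 h
      exact hG x hx hxq
  · intro a ha
    rw [← hS] at ha
    induction ha using Submodule.span_induction with
    | mem x hx =>
      refine ⟨(∏ y ∈ S.erase x, G y) * B x, ?_⟩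
      rw [← Finset.mul_prod_erase _ _ hx]
      have := hB x hx
      linear_combination (∏ y ∈ S.erase x, G y) * this
    | zero => exact ⟨0, by rw [mul_zero, mul_zero]⟩
    | add x y _ _ hx hy =>
      obtain ⟨b, hb⟩ := hx
      obtain ⟨c, hc⟩ := hy
      exact ⟨b + c, by rw [mul_add, mul_add, hb, hc]⟩
    | smul r x _ hx =>
      obtain ⟨b, hb⟩ := hx
      exact ⟨r * b, by rw [smul_eq_mul]; linear_combination r * hb⟩

/-- At a prime `q` containing the determinant whose local ring is a discrete valuation ring, some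
maximal minor of size one less is not in `q`: generically along `q` the kernel is one-dimensional. -/
theorem exists_adjugate_notMem {M : Matrix ι ι R} (H : Surj k M) [IsNoetherianRing R]
    (q : Ideal R) [q.IsPrime] [IsDiscreteValuationRing (Localization.AtPrime q)]
    (hD : M.det ∈ q) : ∃ i j, M.adjugate i j ∉ q := by
  by_contra hadj
  push Not at hadj
  obtain ⟨π, hπ, g, hg, hgen⟩ := exists_gen q
  -- a kernel vector modulo `q`
  obtain ⟨s', hs', hMs'⟩ := Matrix.exists_mulVec_eq_zero_iff (M := M.map (Ideal.Quotient.mk q)).2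
    (by rw [← RingHom.mapMatrix_apply, ← RingHom.map_det, Ideal.Quotient.eq_zero_iff_mem]
        exact hD)
  obtain ⟨s, hs⟩ : ∃ s : ι → R, (fun j => Ideal.Quotient.mk q (s j)) = s' := by
    choose s hs using fun j => Ideal.Quotient.mk_surjective (s' j)
    exact ⟨s, funext hs⟩
  obtain ⟨i, hi⟩ : ∃ i, s i ∉ q := by
    by_contra hc
    push Not at hc
    apply hs'
    rw [← hs]
    funext i
    exact Ideal.Quotient.eq_zero_iff_mem.2 (hc i)
  have hMs : ∀ i, (M *ᵥ s) i ∈ q := by
    intro i
    rw [← Ideal.Quotient.eq_zero_iff_mem]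
    have h1 := congrFun hMs' i
    rw [← hs] at h1
    simpa only [Matrix.mulVec, dotProduct, map_sum, map_mul, Matrix.map_apply,
      Pi.zero_apply] using h1
  obtain ⟨z, hzq, hz⟩ := exists_algHom_of_notMem_of_isPrime (K := k) (J := q) (a := g * s i)
    (fun h => (Ideal.IsPrime.mem_or_mem ‹_› h).elim hg hi)
  rw [map_mul] at hz
  have hzg : z g ≠ 0 := left_ne_zero_of_mul hz
  refine H.adjugate_ne_zero z s (fun h => right_ne_zero_of_mul hz (congrFun h i))
    (fun i => hzq _ (hMs i)) π (fun v hv i => ?_) ?_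
  · obtain ⟨b, hb⟩ := hgen _ (hMs i)
    exact v.eq_zero_of_mul hb hzg (hzq _ (hMs i)) (hzq _ hπ) hv
  · have h2 : (M.map z).adjugate = M.adjugate.map z := by
      have := RingHom.map_adjugate (z : R →+* k) M
      simpa using this.symm
    rw [h2]
    ext i j
    exact hzq _ (hadj i j)

/-- The key step: at a prime `q` containing the determinant whose local ring is a discrete valuation
ring, the determinant generates `q` locally. -/
theorem exists_mul_mem {M : Matrix ι ι R} (H : Surj k M) [IsNoetherianRing R] (q : Ideal R)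
    [q.IsPrime] [IsDiscreteValuationRing (Localization.AtPrime q)] (hD : M.det ∈ q) {a : R}
    (ha : a ∈ q) : ∃ c ∉ q, c * a ∈ Ideal.span {M.det} := by
  obtain ⟨π, hπ, g, hg, hgen⟩ := exists_gen q
  obtain ⟨D', hD'⟩ := hgen _ hD
  by_cases hDq : D' ∈ q
  · exfalso
    -- `g * det M ∈ q ^ 2`
    have hsq : g * M.det ∈ q ^ 2 := by
      rw [hD', pow_two]
      exact Ideal.mul_mem_mul hπ hDq
    obtain ⟨i, j, hij⟩ := exists_adjugate_notMem H q hD
    obtain ⟨z, hzq, hz⟩ := exists_algHom_of_notMem_of_isPrime (K := k) (J := q)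
      (a := g * M.adjugate i j) (fun h => (Ideal.IsPrime.mem_or_mem ‹_› h).elim hg hij)
    have hM : ∀ l, (M *ᵥ (fun l => g * M.adjugate l j)) l ∈ q ^ 2 := by
      intro l
      have h1 : (M *ᵥ (fun l => g * M.adjugate l j)) l = g * (M * M.adjugate) l j := by
        simp only [Matrix.mulVec, dotProduct, Matrix.mul_apply, Finset.mul_sum]
        exact Finset.sum_congr rfl fun x _ => by ring
      rw [h1, Matrix.mul_adjugate, Matrix.smul_apply, smul_eq_mul, ← mul_assoc]
      exact Ideal.mul_mem_right _ _ hsq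
    refine H.false_of_kill z (fun l => g * M.adjugate l j) (fun h => hz (congrFun h i))
      (fun l => hzq _ (Ideal.pow_le_self two_ne_zero (hM l))) (fun v l => ?_)
    exact v.sq_eq_zero hzq (hM l)
  · refine ⟨D' * g, fun h => (Ideal.IsPrime.mem_or_mem ‹_› h).elim hDq hg, ?_⟩
    obtain ⟨b, hb⟩ := hgen a ha
    rw [Ideal.mem_span_singleton']
    exact ⟨g * b, by linear_combination (-D') * hb + b * hD'⟩

/-- The determinant generates a radical ideal. -/
theorem isRadical [IsIntegrallyClosed R] {M : Matrix ι ι R} (H : Surj k M) :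
    (Ideal.span {M.det}).IsRadical := by
  have : IsNoetherianRing R := Algebra.FiniteType.isNoetherianRing k R
  rintro a ⟨n, hn⟩
  by_contra ha
  obtain ⟨P, hP, hDP, hdvr, hs⟩ :=
    Groth.Agent.Etalg.NormalDvr.exists_dvr_prime_of_notMem_span R (det_ne_zero H) ha
  have haP : a ∈ P := by
    refine hP.mem_of_pow_mem n ?_
    exact (Ideal.span_singleton_le_iff_mem _).2 hDP hn
  obtain ⟨c, hc, hca⟩ := exists_mul_mem H P hDP haP
  exact hc (hs c hca)

end K977.DetRad
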