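import Mathlib.CategoryTheory.Monoidal.Rigid.Braided
import Mathlib.CategoryTheory.Monoidal.Preadditive
import Mathlib.CategoryTheory.Limits.Shapes.Pullback.HasPullback
import Mathlib.CategoryTheory.Abelian.Basic

/-!
# The diagram chase behind the surjectivity of the Kodaira-Spencer map

In a symmetric monoidal abelian category with duals: `α : K ⟶ G`, `π : G ⟶ V`, `i : S ⟶ V`, `q : V ⟶ Q`, `s : St ⟶ G`,
`p : St ⟶ S`, `j : K ⟶ St`.  If `H` is a functor such that `H(α ⊗ G')`, `H(G ⊗ V' ⟶ Q ⊗ S')`, `H(St ⊗ V' ⟶ 𝟙)` are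
epimorphisms and `K ⊗ K' ≅ 𝟙`, then `H` kills `Q ⊗ S' ⟶ (Q ⊗ St') ×_(Q ⊗ K') (G ⊗ K')`.
-/

set_option autoImplicit false

open CategoryTheory CategoryTheory.Limits MonoidalCategory

namespace K977.KsAbs

universe v u v' u'

section

variable {C : Type u} [Category.{v} C] [MonoidalCategory C] [BraidedCategory C]

/-- The contraction. -/
noncomputable def tr (A : C) [HasRightDual A] : A ⊗ Aᘁ ⟶ 𝟙_ C := (β_ A Aᘁ).hom ≫ ε_ A Aᘁ

theorem tr_dinat {A B : C} [HasRightDual A] [HasRightDual B] (f : A ⟶ B) :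
    f ▷ Bᘁ ≫ tr B = A ◁ fᘁ ≫ tr A := by
  rw [tr, tr, ← Category.assoc, BraidedCategory.braiding_naturality_left, Category.assoc,
    ← rightAdjointMate_comp_evaluation, ← Category.assoc, ← BraidedCategory.braiding_naturality_right, Category.assoc]

end

section

variable {C : Type u} [Category.{v} C] [Abelian C] [MonoidalCategory C] [MonoidalPreadditive C]

theorem mate_zero (A B : C) [HasRightDual A] [HasRightDual B] : (0 : A ⟶ B)ᘁ = 0 := by
  rw [rightAdjointMate]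
  simp

variable {K G V S Q St : C} [HasRightDual K] [HasRightDual S] [HasRightDual St]
  (j : K ⟶ St) (p : St ⟶ S) (θ : G ⟶ Q)

/-- The pull back of `Q ⊗ St' ⟶ Q ⊗ K'` along `G ⊗ K' ⟶ Q ⊗ K'`. -/
noncomputable abbrev EE : C := pullback (Q ◁ jᘁ) (θ ▷ Kᘁ)

/-- The inclusion of `Q ⊗ S'`. -/
noncomputable def io (w : j ≫ p = 0) : Q ⊗ Sᘁ ⟶ EE j θ :=
  pullback.lift (Q ◁ pᘁ) 0 (by
    rw [← MonoidalCategory.whiskerLeft_comp, ← comp_rightAdjointMate, w, mate_zero,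
      MonoidalPreadditive.whiskerLeft_zero, zero_comp])

end

section

variable {C : Type u} [Category.{v} C] [Abelian C] [MonoidalCategory C] [BraidedCategory C] [MonoidalPreadditive C]

variable {D : Type u'} [Category.{v'} D] [HasZeroMorphisms D] (H : C ⥤ D) [H.PreservesZeroMorphisms]

variable {K G V S Q St : C} [HasRightDual K] [HasRightDual G] [HasRightDual V] [HasRightDual S] [HasRightDual St]
  (α : K ⟶ G) (π : G ⟶ V) (i : S ⟶ V) (q : V ⟶ Q) (s : St ⟶ G) (p : St ⟶ S) (j : K ⟶ St)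

/-- **The chase.** -/
theorem map_io (hαπ : α ≫ π = 0) (hiq : i ≫ q = 0) (hjs : j ≫ s = α) (hjp : j ≫ p = 0) (hsp : s ≫ π = p ≫ i)
    (hK : IsIso (tr K))
    (h1 : Epi (H.map (α ▷ Gᘁ)))
    (h2 : Epi (H.map ((π ≫ q) ▷ Vᘁ ≫ Q ◁ iᘁ)))
    (h3 : Epi (H.map (p ▷ Vᘁ ≫ S ◁ iᘁ ≫ tr S))) :
    H.map (io (Q := Q) j p (π ≫ q) hjp) = 0 := by
  -- the map `G ⊗ G' ⟶ EE`
  let ρ : G ⊗ Gᘁ ⟶ EE j (π ≫ q) := pullback.lift ((π ≫ q) ▷ Gᘁ ≫ Q ◁ sᘁ) (G ◁ αᘁ) (by
    rw [Category.assoc, ← MonoidalCategory.whiskerLeft_comp, ← comp_rightAdjointMate, hjs, whisker_exchange])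
  let jj : K ⊗ Kᘁ ⟶ EE j (π ≫ q) := pullback.lift 0 (α ▷ Kᘁ) (by
    rw [zero_comp, ← comp_whiskerRight, ← Category.assoc, hαπ, zero_comp, MonoidalPreadditive.zero_whiskerRight])
  have e1 : G ◁ πᘁ ≫ ρ = ((π ≫ q) ▷ Vᘁ ≫ Q ◁ iᘁ) ≫ io (Q := Q) j p (π ≫ q) hjp := by
    apply pullback.hom_ext
    · rw [Category.assoc, Category.assoc, pullback.lift_fst, io, pullback.lift_fst, ← Category.assoc,
        whisker_exchange, Category.assoc, Category.assoc, ← MonoidalCategory.whiskerLeft_comp,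
        ← MonoidalCategory.whiskerLeft_comp, ← comp_rightAdjointMate, ← comp_rightAdjointMate, hsp]
    · rw [Category.assoc, Category.assoc, pullback.lift_snd, io, pullback.lift_snd, comp_zero,
        ← MonoidalCategory.whiskerLeft_comp, ← comp_rightAdjointMate, hαπ, mate_zero,
        MonoidalPreadditive.whiskerLeft_zero]
  have e2 : α ▷ Gᘁ ≫ ρ = K ◁ αᘁ ≫ jj := by
    apply pullback.hom_ext
    · rw [Category.assoc, Category.assoc, pullback.lift_fst, pullback.lift_fst, comp_zero, ← Category.assoc,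
        ← comp_whiskerRight, ← Category.assoc, hαπ, zero_comp, MonoidalPreadditive.zero_whiskerRight, zero_comp]
    · rw [Category.assoc, Category.assoc, pullback.lift_snd, pullback.lift_snd, whisker_exchange]
  have e3 : α ▷ Gᘁ ≫ ρ = α ▷ Gᘁ ≫ tr G ≫ inv (tr K) ≫ jj := by
    rw [e2, ← Category.assoc (α ▷ Gᘁ), tr_dinat, Category.assoc, IsIso.hom_inv_id_assoc]
  have e4 : H.map ρ = H.map (tr G ≫ inv (tr K) ≫ jj) := by
    rw [← cancel_epi (H.map (α ▷ Gᘁ)), ← H.map_comp, ← H.map_comp, e3]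
  have e5 : (s ▷ Vᘁ ≫ G ◁ πᘁ) ≫ ρ = 0 := by
    rw [Category.assoc, e1, ← Category.assoc, ← Category.assoc, ← comp_whiskerRight, ← Category.assoc, hsp,
      Category.assoc p, hiq, comp_zero, MonoidalPreadditive.zero_whiskerRight, zero_comp, zero_comp]
  have e6 : (s ▷ Vᘁ ≫ G ◁ πᘁ) ≫ tr G = p ▷ Vᘁ ≫ S ◁ iᘁ ≫ tr S := by
    rw [Category.assoc, ← tr_dinat, ← Category.assoc, ← comp_whiskerRight, hsp, comp_whiskerRight, Category.assoc,
      tr_dinat]
  have e7 : H.map (inv (tr K) ≫ jj) = 0 := by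
    rw [← cancel_epi (H.map (p ▷ Vᘁ ≫ S ◁ iᘁ ≫ tr S)), comp_zero, ← H.map_comp, ← e6, Category.assoc, H.map_comp,
      ← e4, ← H.map_comp, e5, H.map_zero]
  rw [← cancel_epi (H.map ((π ≫ q) ▷ Vᘁ ≫ Q ◁ iᘁ)), comp_zero, ← H.map_comp, ← e1, H.map_comp, e4, H.map_comp, e7,
    comp_zero, comp_zero]

end

end K977.KsAbs
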