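import Groth.Agent.BunMod.K977.KsDual
import Groth.Prelude.Def_DeltaF

/-!
# Surjectivity of the Kodaira-Spencer map, abstract form

`T` a cohomological delta-functor on a braided monoidal abelian category.  Under the hypotheses of
`K977.KsAbs.map_io` the composite `T⁰(G ⊗ K') ⟶ T⁰(Q ⊗ K') ⟶ T¹(Q ⊗ S')` is an epimorphism.
-/

set_option autoImplicit false
set_option linter.unusedSectionVars false

open CategoryTheory CategoryTheory.Limits MonoidalCategory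

namespace K977.KsAbs

universe v u v' u'

section

variable {C : Type u} [Category.{v} C] [Abelian C]

/-- The pull back of a short exact sequence. -/
theorem shortExact_pb {X₁ X₂ X₃ Z : C} {f : X₁ ⟶ X₂} {g : X₂ ⟶ X₃} {w : f ≫ g = 0}
    (hS : (ShortComplex.mk f g w).ShortExact) (θ : Z ⟶ X₃) :
    (ShortComplex.mk (pullback.lift f 0 (by rw [w, zero_comp]) : X₁ ⟶ pullback g θ) (pullback.snd g θ)
      (pullback.lift_snd _ _ _)).ShortExact := by
  have hf : Mono f := hS.mono_f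
  have hg : Epi g := hS.epi_g
  have h1 : Mono (pullback.lift f 0 (by rw [w, zero_comp]) : X₁ ⟶ pullback g θ) := by
    have h2 : (pullback.lift f 0 (by rw [w, zero_comp]) : X₁ ⟶ pullback g θ) ≫ pullback.fst g θ = f :=
      pullback.lift_fst _ _ _
    have h3 : Mono ((pullback.lift f 0 (by rw [w, zero_comp]) : X₁ ⟶ pullback g θ) ≫ pullback.fst g θ) := by
      rw [h2]; exact hf
    exact mono_of_mono _ (pullback.fst g θ)
  refine { exact := ?_, mono_f := h1, epi_g := inferInstanceAs (Epi (pullback.snd g θ)) }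
  refine ShortComplex.exact_of_f_is_kernel _ ?_
  refine KernelFork.IsLimit.ofι' _ _ fun {X} t ht => ?_
  have h2 : (t ≫ pullback.fst g θ) ≫ g = 0 := by
    rw [Category.assoc, pullback.condition, ← Category.assoc]
    exact (congrArg (· ≫ θ) ht).trans zero_comp
  refine ⟨hS.exact.lift (t ≫ pullback.fst g θ) h2, ?_⟩
  apply pullback.hom_ext
  · rw [Category.assoc]
    exact (congrArg (_ ≫ ·) (pullback.lift_fst _ _ _)).trans (hS.exact.lift_f _ _)
  · rw [Category.assoc]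
    exact (congrArg (_ ≫ ·) (pullback.lift_snd _ _ _)).trans (comp_zero.trans ht.symm)

end

variable {C : Type u} [Category.{v} C] [Abelian C] [MonoidalCategory C] [BraidedCategory C] [MonoidalPreadditive C]

variable {D : Type u'} [Category.{v'} D] [Abelian D] (T : DeltaF.CohDeltaFunctor C D ℕ)

variable {K G V S Q St : C} [HasRightDual K] [HasRightDual G] [HasRightDual V] [HasRightDual S] [HasRightDual St]
  (α : K ⟶ G) (π : G ⟶ V) (i : S ⟶ V) (q : V ⟶ Q) (s : St ⟶ G) (p : St ⟶ S) (j : K ⟶ St)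

/-- **Surjectivity.** -/
theorem epi_conn (hαπ : α ≫ π = 0) (hiq : i ≫ q = 0) (hjs : j ≫ s = α) (hjp : j ≫ p = 0) (hsp : s ≫ π = p ≫ i)
    (hK : IsIso (tr K)) {w : Q ◁ pᘁ ≫ Q ◁ jᘁ = 0}
    (hE : (ShortComplex.mk (Q ◁ pᘁ) (Q ◁ jᘁ) w).ShortExact)
    (h1 : Epi ((T.F 1).map (α ▷ Gᘁ)))
    (h2 : Epi ((T.F 1).map ((π ≫ q) ▷ Vᘁ ≫ Q ◁ iᘁ)))
    (h3 : Epi ((T.F 1).map (p ▷ Vᘁ ≫ S ◁ iᘁ ≫ tr S))) :
    Epi ((T.F 0).map ((π ≫ q) ▷ Kᘁ) ≫ T.δ _ hE 0 1 rfl) := by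
  have h4 := map_io (T.F 1) α π i q s p j hαπ hiq hjs hjp hsp hK h1 h2 h3
  have hP := shortExact_pb hE ((π ≫ q) ▷ Kᘁ)
  let φ : (ShortComplex.mk (pullback.lift (Q ◁ pᘁ) 0 (by rw [w, zero_comp]) :
      Q ⊗ Sᘁ ⟶ pullback (Q ◁ jᘁ) ((π ≫ q) ▷ Kᘁ)) (pullback.snd (Q ◁ jᘁ) ((π ≫ q) ▷ Kᘁ))
      (pullback.lift_snd _ _ _)) ⟶ ShortComplex.mk (Q ◁ pᘁ) (Q ◁ jᘁ) w :=
    { τ₁ := 𝟙 _
      τ₂ := pullback.fst _ _
      τ₃ := (π ≫ q) ▷ Kᘁ
      comm₁₂ := by
        rw [Category.id_comp]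
        exact (pullback.lift_fst _ _ _).symm
      comm₂₃ := pullback.condition }
  have h5 := T.δ_natural hP hE φ 0 1 rfl
  have h6 : (T.F 0).map ((π ≫ q) ▷ Kᘁ) ≫ T.δ _ hE 0 1 rfl = T.δ _ hP 0 1 rfl := by
    refine h5.trans ?_
    change _ ≫ (T.F 1).map (𝟙 _) = _
    rw [(T.F 1).map_id]
    exact Category.comp_id _
  rw [h6]
  refine (ShortComplex.exact_iff_epi _ ?_).1 (T.exact₁ _ hP 0 1 rfl)
  exact h4

end K977.KsAbs
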