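import Groth.Agent.BunMod.K977.KsAbs
import Mathlib.Algebra.Homology.ShortComplex.ShortExact
import Mathlib.CategoryTheory.Abelian.Exact

/-!
# Duals of short exact sequences

In a monoidal abelian category: `0 ⟶ K ⟶ St ⟶ S ⟶ 0` a short exact sequence of dualizable objects which stays short
exact after tensoring with any object; then `0 ⟶ S' ⟶ St' ⟶ K' ⟶ 0` is short exact.
-/

set_option autoImplicit false
set_option linter.unusedSectionVars false

open CategoryTheory CategoryTheory.Limits MonoidalCategory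

namespace K977.KsAbs

universe v u

variable {C : Type u} [Category.{v} C] [Abelian C] [MonoidalCategory C] [MonoidalPreadditive C]

section

variable {A B : C} [HasRightDual A] [HasRightDual B]

/-- The element of `Hom(𝟙, A ⊗ X)` attached to `f : A' ⟶ X`. -/
noncomputable def el (A : C) [HasRightDual A] {X : C} (f : Aᘁ ⟶ X) : 𝟙_ C ⟶ A ⊗ X := η_ A Aᘁ ≫ A ◁ f

theorem el_comp {X Y : C} (f : Aᘁ ⟶ X) (g : X ⟶ Y) : el A (f ≫ g) = el A f ≫ A ◁ g := by
  simp [el]

theorem el_eq {X : C} (f : Aᘁ ⟶ X) :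
    el A f = (tensorLeftHomEquiv (𝟙_ C) A Aᘁ X) ((ρ_ Aᘁ).hom ≫ f) := by
  simp only [el, tensorLeftHomEquiv, Equiv.coe_fn_mk]
  simp
  monoidal

theorem el_bijective (X : C) : Function.Bijective (el A (X := X)) := by
  refine ⟨fun f g h => ?_, fun t => ⟨(ρ_ Aᘁ).inv ≫ (tensorLeftHomEquiv (𝟙_ C) A Aᘁ X).symm t, ?_⟩⟩
  · rw [el_eq, el_eq] at h
    have h1 := (tensorLeftHomEquiv (𝟙_ C) A Aᘁ X).injective h
    rwa [cancel_epi] at h1
  · rw [el_eq, Iso.hom_inv_id_assoc, Equiv.apply_symm_apply]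

theorem el_zero (X : C) : el A (0 : Aᘁ ⟶ X) = 0 := by
  rw [el, MonoidalPreadditive.whiskerLeft_zero, comp_zero]

/-- Change of the module. -/
theorem el_mate (u : A ⟶ B) {X : C} (f : Aᘁ ⟶ X) : el B (uᘁ ≫ f) = el A f ≫ u ▷ X := by
  rw [el, el, MonoidalCategory.whiskerLeft_comp, ← Category.assoc, coevaluation_comp_rightAdjointMate,
    Category.assoc, Category.assoc, whisker_exchange]

/-- The evaluation form of a map to the dual. -/
noncomputable def fe (A : C) [HasRightDual A] {X : C} (f : X ⟶ Aᘁ) : X ⊗ A ⟶ 𝟙_ C := f ▷ A ≫ ε_ A Aᘁ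

theorem fe_eq {X : C} (f : X ⟶ Aᘁ) : fe A f = (tensorRightHomEquiv X A Aᘁ (𝟙_ C)).symm (f ≫ (λ_ Aᘁ).inv) := by
  simp only [fe, tensorRightHomEquiv, Equiv.coe_fn_symm_mk]
  simp
  monoidal

theorem fe_injective (X : C) : Function.Injective (fe A (X := X)) := by
  intro f g h
  rw [fe_eq, fe_eq] at h
  have h1 := (tensorRightHomEquiv X A Aᘁ (𝟙_ C)).symm.injective h
  rwa [cancel_mono] at h1

theorem fe_zero (X : C) : fe A (0 : X ⟶ Aᘁ) = 0 := by
  rw [fe, MonoidalPreadditive.zero_whiskerRight, zero_comp]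

theorem fe_mate (u : A ⟶ B) {X : C} (f : X ⟶ Bᘁ) : fe A (f ≫ uᘁ) = X ◁ u ≫ fe B f := by
  rw [fe, fe, comp_whiskerRight, Category.assoc, rightAdjointMate_comp_evaluation, ← Category.assoc,
    ← Category.assoc, whisker_exchange]

end

variable {K St S : C} [HasRightDual K] [HasRightDual St] [HasRightDual S] (j : K ⟶ St) (p : St ⟶ S)

/-- The mate of a universal monomorphism is an epimorphism. -/
theorem epi_mate (h : ∀ X : C, Mono (j ▷ X)) : Epi (jᘁ) := by
  refine Preadditive.epi_of_cancel_zero _ fun {X} f hf => ?_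
  apply (el_bijective X).1
  have := h X
  rw [el_zero, ← cancel_mono (j ▷ X), ← el_mate, hf, el_zero, zero_comp]

/-- The mate of a universal epimorphism is a monomorphism. -/
theorem mono_mate (h : ∀ X : C, Epi (X ◁ p)) : Mono (pᘁ) := by
  refine Preadditive.mono_of_cancel_zero _ fun {X} f hf => ?_
  apply fe_injective X
  have := h X
  rw [fe_zero, ← cancel_epi (X ◁ p), ← fe_mate, hf, fe_zero, comp_zero]

theorem mate_comp_zero (w : j ≫ p = 0) : pᘁ ≫ jᘁ = 0 := by
  rw [← comp_rightAdjointMate, w, mate_zero]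

/-- **Duals of short exact sequences.** -/
theorem shortExact_mate (w : j ≫ p = 0) (hl : ∀ X : C, Epi (X ◁ p))
    (hr : ∀ X : C, (ShortComplex.mk (j ▷ X) (p ▷ X)
      (by rw [← comp_whiskerRight, w, MonoidalPreadditive.zero_whiskerRight])).ShortExact) :
    (ShortComplex.mk (pᘁ) (jᘁ) (mate_comp_zero j p w)).ShortExact := by
  have h1 : Epi (jᘁ) := epi_mate j fun X => (hr X).mono_f
  have h2 : Mono (pᘁ) := mono_mate p hl
  refine { exact := ?_, mono_f := h2, epi_g := h1 }
  refine ShortComplex.exact_of_g_is_cokernel _ ?_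
  refine CokernelCofork.IsColimit.ofπ' _ _ fun {X} g hg => ?_
  have h3 : el St g ≫ p ▷ X = 0 := by
    rw [← el_mate, hg, el_zero]
  have := (hr X).mono_f
  let t : 𝟙_ C ⟶ K ⊗ X := (hr X).exact.lift (el St g) h3
  have ht : t ≫ j ▷ X = el St g := (hr X).exact.lift_f _ _
  refine ⟨Classical.choose ((el_bijective X).2 t), ?_⟩
  apply (el_bijective X).1
  have h4 := Classical.choose_spec ((el_bijective X).2 t)
  exact (el_mate j _).trans ((congrArg (· ≫ j ▷ X) h4).trans ht)

end K977.KsAbs
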