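import Groth.Agent.BunMod.K977.KsConn
import Groth.Agent.CurvSt.K900.Twist
import Groth.Agent.Dcoh.FlatSES
import Groth.Agent.Dcoh.Spread
import Groth.Agent.RDer.K887.LES
import Groth.Agent.Coherent.K53.FlfAdj
import Groth.Agent.Dcoh.MonInst
import Groth.Agent.PerfA.QCohSerre
import Groth.Agent.PerfB.StructFlat
import Groth.Agent.Ega1.TensorRestrict

/-!
# Surjectivity of the Kodaira-Spencer map for modules on a scheme

`f : Y ⟶ Z` with `R² f_* = 0` on quasi-coherent modules, `0 ⟶ K ⟶ G ⟶ V ⟶ 0` and `0 ⟶ S ⟶ V ⟶ Q ⟶ 0` exact sequences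
of finite locally free modules, `K` invertible, `R¹ f_* (V ⊗ G') = 0`, the contraction `S ⊗ S' ⟶ O` an epimorphism.
Then `f_*(G ⊗ K') ⟶ R¹ f_*(Q ⊗ S')` is an epimorphism.
-/

set_option autoImplicit false
universe u

open CategoryTheory CategoryTheory.Limits AlgebraicGeometry MonoidalCategory

namespace K977.KsGeo

open K977.KsAbs
open scoped Groth.Agent.Dcoh.MonCat

theorem isIso_tr {C : Type*} [Category* C] [MonoidalCategory C] [BraidedCategory C] (A : C) [HasRightDual A]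
    [(tensorLeft A).IsEquivalence] : IsIso (tr A) := by
  have h1 : IsIso ((tensorLeftAdjunction A Aᘁ).counit.app (𝟙_ C)) := inferInstance
  have h2 : (tensorLeftAdjunction A Aᘁ).counit.app (𝟙_ C) = (Aᘁ ◁ (ρ_ A).hom) ≫ ε_ A Aᘁ := by
    simp [tensorLeftAdjunction, tensorLeftHomEquiv, unitors_equal]
  rw [h2] at h1
  have h3 : IsIso (ε_ A Aᘁ) := IsIso.of_isIso_comp_left (Aᘁ ◁ (ρ_ A).hom) _
  rw [tr]
  infer_instance

variable {Y Z : Scheme.{u}} (f : Y ⟶ Z)

theorem enoughInjectives (Y : Scheme.{u}) : EnoughInjectives Y.Modules :=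
  Groth.Agent.S0485.result _ Y.ringCatSheaf

/-- The delta-functor of higher direct images. -/
noncomputable def DF : DeltaF.CohDeltaFunctor Y.Modules Z.Modules ℕ :=
  haveI := enoughInjectives Y
  (K887.LES.derivedLES (Scheme.Modules.pushforward f)).toCohDeltaFunctor

theorem DF_F [HasInjectiveResolutions Y.Modules] (n : ℕ) : (DF f).F n = Coh.Rpush f n := rfl

/-- `R¹ f_*` preserves epimorphisms of quasi-coherent modules if `R² f_*` vanishes on quasi-coherent modules. -/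
theorem epi_R1 (hR2 : ∀ M : Y.Modules, Coh.IsQCoh M → IsZero (((DF f).F 2).obj M)) {M N : Y.Modules} (u : M ⟶ N)
    [Epi u] (hM : Coh.IsQCoh M) (hN : Coh.IsQCoh N) : Epi (((DF f).F 1).map u) := by
  have hS : (ShortComplex.mk (kernel.ι u) u (kernel.condition u)).ShortExact :=
    { exact := ShortComplex.exact_of_f_is_kernel _ (kernelIsKernel u) }
  refine (ShortComplex.exact_iff_epi _ ?_).1 ((DF f).exact₃ _ hS 1 2 rfl)
  exact (hR2 _ (Groth.Agent.PerfA.QCohSerre.isQCoh_kernel u hM hN)).eq_of_tgt _ _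

/-- Exactness in the middle. -/
theorem epi_R1_left {K G V : Y.Modules} {a : K ⟶ G} {b : G ⟶ V} {w : a ≫ b = 0}
    (hS : (ShortComplex.mk a b w).ShortExact) (h : IsZero (((DF f).F 1).obj V)) : Epi (((DF f).F 1).map a) := by
  refine (ShortComplex.exact_iff_epi _ ?_).1 ((DF f).exact₂ _ hS 1)
  exact h.eq_of_tgt _ _

theorem isFlat_of {M : Y.Modules} (h : FlatMod.IsFinLocFree M) : FlatMod.IsFlat M :=
  Groth.Agent.Dcoh.Spread.isFlat_of_isFinLocFree h

section Tens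

variable {A B C : Y.Modules} {a : A ⟶ B} {b : B ⟶ C} {w : a ≫ b = 0}

theorem shortExact_right (hS : (ShortComplex.mk a b w).ShortExact) (hC : FlatMod.IsFinLocFree C) (W : Y.Modules) :
    (ShortComplex.mk (a ▷ W) (b ▷ W)
      (by rw [← comp_whiskerRight, w, MonoidalPreadditive.zero_whiskerRight])).ShortExact :=
  Groth.Agent.Dcoh.FlatSES.shortExact_tensor hS (isFlat_of hC) W

theorem shortExact_left (hS : (ShortComplex.mk a b w).ShortExact) (hC : FlatMod.IsFinLocFree C) (W : Y.Modules) :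
    (ShortComplex.mk (W ◁ a) (W ◁ b)
      (by rw [← MonoidalCategory.whiskerLeft_comp, w, MonoidalPreadditive.whiskerLeft_zero])).ShortExact :=
  Groth.Agent.Dcoh.FlatSES.shortExact_tensor' hS (isFlat_of hC) W

/-- Duals of short exact sequences of finite locally free modules, tensored. -/
theorem shortExact_dual [HasRightDual A] [HasRightDual B] [HasRightDual C]
    (hS : (ShortComplex.mk a b w).ShortExact) (hC : FlatMod.IsFinLocFree C) :
    (ShortComplex.mk (bᘁ) (aᘁ) (mate_comp_zero a b w)).ShortExact :=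
  shortExact_mate a b w (fun W => (shortExact_left hS hC W).epi_g) (fun W => shortExact_right hS hC W)

end Tens

theorem isFinLocFree_dual {A : Y.Modules} [HasRightDual A] (hA : FlatMod.IsFinLocFree A) : FlatMod.IsFinLocFree Aᘁ :=
  Groth.Agent.Dcoh.DualFLF.isFinLocFree_dual hA Aᘁ

theorem qcoh_tensor {A B : Y.Modules} (hA : FlatMod.IsFinLocFree A) (hB : FlatMod.IsFinLocFree B) :
    Coh.IsQCoh (A ⊗ B) :=
  Groth.Agent.Ega1.TensorRestrict.isQCoh_tensorMod _ _ (Groth.Agent.Ega2.QCohLocal.isQCoh_of_isFinLocFree hA)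
    (Groth.Agent.Ega2.QCohLocal.isQCoh_of_isFinLocFree hB)

variable {K G V S Q St : Y.Modules} [HasRightDual K] [HasRightDual G] [HasRightDual V] [HasRightDual S]
  [HasRightDual Q] [HasRightDual St]

theorem comp_E {s t u : Y.Modules} [HasRightDual s] [HasRightDual t] [HasRightDual u] {j : s ⟶ t} {p : t ⟶ u}
    (wj : j ≫ p = 0) (Q : Y.Modules) : Q ◁ pᘁ ≫ Q ◁ jᘁ = 0 := by
  rw [← MonoidalCategory.whiskerLeft_comp, mate_comp_zero j p wj, MonoidalPreadditive.whiskerLeft_zero]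

theorem shortExact_E {j : K ⟶ St} {p : St ⟶ S} {wj : j ≫ p = 0} (hj : (ShortComplex.mk j p wj).ShortExact)
    (hK : FlatMod.IsFinLocFree K) (hS : FlatMod.IsFinLocFree S) (Q : Y.Modules) :
    (ShortComplex.mk (Q ◁ pᘁ) (Q ◁ jᘁ) (comp_E wj Q)).ShortExact :=
  shortExact_left (shortExact_dual hj hS) (isFinLocFree_dual hK) Q

/-- **Surjectivity of the Kodaira-Spencer map.** -/
theorem epi_geo (hR2 : ∀ M : Y.Modules, Coh.IsQCoh M → IsZero (((DF f).F 2).obj M))
    {α : K ⟶ G} {π : G ⟶ V} {wα : α ≫ π = 0} (hα : (ShortComplex.mk α π wα).ShortExact)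
    {i : S ⟶ V} {q : V ⟶ Q} {wi : i ≫ q = 0} (hi : (ShortComplex.mk i q wi).ShortExact)
    (hKi : PicF.IsInvertible K) (hK : FlatMod.IsFinLocFree K) (hG : FlatMod.IsFinLocFree G)
    (hV : FlatMod.IsFinLocFree V) (hS : FlatMod.IsFinLocFree S) (hQ : FlatMod.IsFinLocFree Q)
    {s : St ⟶ G} {p : St ⟶ S} {j : K ⟶ St} {wj : j ≫ p = 0}
    (hj : (ShortComplex.mk j p wj).ShortExact) (hjs : j ≫ s = α) (hsp : s ≫ π = p ≫ i)
    (hSt : FlatMod.IsFinLocFree St) (htr : Epi (tr S)) (h1V : IsZero (((DF f).F 1).obj (V ⊗ Gᘁ))) :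
    Epi (((DF f).F 0).map ((π ≫ q) ▷ Kᘁ) ≫ (DF f).δ _ (shortExact_E hj hK hS Q) 0 1 rfl) := by
  have e1 : Coh.IsQCoh (𝟙_ Y.Modules) := Groth.Agent.Ega2.QCohLocal.isQCoh_of_isFinLocFree
    (Groth.Agent.PerfB.StructFlat.isFinLocFree_structure (X := Y))
  have hV' := isFinLocFree_dual hV
  have a1 : Epi (π ▷ Vᘁ) := (shortExact_right hα hV Vᘁ).epi_g
  have a2 : Epi (q ▷ Vᘁ) := (shortExact_right hi hQ Vᘁ).epi_g
  have a3 : Epi (iᘁ) := (shortExact_dual hi hQ).epi_g
  have a4 : Epi (Q ◁ iᘁ) := (shortExact_left (shortExact_dual hi hQ) (isFinLocFree_dual hS) Q).epi_g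
  have a5 : Epi (S ◁ iᘁ) := (shortExact_left (shortExact_dual hi hQ) (isFinLocFree_dual hS) S).epi_g
  have a6 : Epi (p ▷ Vᘁ) := (shortExact_right hj hS Vᘁ).epi_g
  have a7 : Epi ((π ≫ q) ▷ Vᘁ ≫ Q ◁ iᘁ) := by
    rw [comp_whiskerRight]
    infer_instance
  have a8 : Epi (p ▷ Vᘁ ≫ S ◁ iᘁ ≫ tr S) := inferInstance
  have := K900.Twist.isEquivalence_tensorLeft_of_isInvertible hKi
  exact epi_conn (DF f) α π i q s p j wα wi hjs wj hsp (isIso_tr K) (shortExact_E hj hK hS Q)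
    (epi_R1_left f (shortExact_right hα hV Gᘁ) h1V)
    (epi_R1 f hR2 _ (qcoh_tensor hG hV') (qcoh_tensor hQ (isFinLocFree_dual hS)))
    (epi_R1 f hR2 _ (qcoh_tensor hSt hV') e1)

end K977.KsGeo
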