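import Groth.Agent.BunMod.K977.KsGeo
import Groth.Agent.BunMod.K311.Sec
import Groth.Agent.PerfA.QCohEpi

/-!
# The connecting map on global sections

`f : Y ⟶ Z`, `0 ⟶ M₁ ⟶ M₂ ⟶ M₃ ⟶ 0` a short exact sequence of modules on `Y`:
`conn f hS : Γ(M₃, ⊤) →+ Γ(R¹ f_* M₁, ⊤)`; it kills sections of `M₂` (`conn_app`), is linear over `Γ(Z, ⊤)`
(`conn_smul`), and surjectivity (`conn_surjective`).
-/

set_option autoImplicit false
universe u

open CategoryTheory CategoryTheory.Limits AlgebraicGeometry MonoidalCategory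

namespace K977.KsSec

open K977.KsAbs K977.KsGeo

variable {Y Z : Scheme.{u}} (f : Y ⟶ Z)

instance : PreservesLimits (Scheme.Modules.pushforward f) :=
  (Scheme.Modules.pullbackPushforwardAdjunction f).rightAdjoint_preservesLimits

/-- `R⁰ f_* = f_*`. -/
noncomputable def zeta : (DF f).F 0 ≅ Scheme.Modules.pushforward f :=
  haveI := enoughInjectives Y
  (Scheme.Modules.pushforward f).rightDerivedZeroIsoSelf

variable {M₁ M₂ M₃ : Y.Modules} {a : M₁ ⟶ M₂} {b : M₂ ⟶ M₃} {w : a ≫ b = 0}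
  (hS : (ShortComplex.mk a b w).ShortExact)

/-- The connecting map of sheaves. -/
noncomputable def dm : (Scheme.Modules.pushforward f).obj M₃ ⟶ ((DF f).F 1).obj M₁ :=
  (zeta f).inv.app M₃ ≫ (DF f).δ _ hS 0 1 rfl

theorem push_dm : (Scheme.Modules.pushforward f).map b ≫ dm f hS = 0 := by
  have h1 := (zeta f).inv.naturality b
  have h2 := (DF f).comp_δ _ hS 0 1 rfl
  rw [dm, ← Category.assoc, h1, Category.assoc]
  exact (congrArg ((zeta f).inv.app M₂ ≫ ·) h2).trans comp_zero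

theorem epi_dm {N : Y.Modules} (θ : N ⟶ M₃) (h : Epi (((DF f).F 0).map θ ≫ (DF f).δ _ hS 0 1 rfl)) :
    Epi ((Scheme.Modules.pushforward f).map θ ≫ dm f hS) := by
  have h1 := (zeta f).inv.naturality θ
  rw [dm, ← Category.assoc, h1, Category.assoc]
  exact epi_comp _ _

/-- The connecting map on global sections. -/
noncomputable def conn : Γ(M₃, (⊤ : Y.Opens)) →+ Γ(((DF f).F 1).obj M₁, (⊤ : Z.Opens)) :=
  ((dm f hS).app ⊤).hom

theorem conn_app (t : Γ(M₂, (⊤ : Y.Opens))) : conn f hS (b.app ⊤ t) = 0 := by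
  have h := congrArg (fun φ : (Scheme.Modules.pushforward f).obj M₂ ⟶ ((DF f).F 1).obj M₁ => φ.app ⊤ t)
    (push_dm f hS)
  exact h

theorem conn_smul (c : Γ(Z, ⊤)) (t : Γ(M₃, (⊤ : Y.Opens))) : conn f hS (f.appTop c • t) = c • conn f hS t := by
  exact Groth.Agent.Sga67.Sec.appS (dm f hS) ⊤ |>.map_smul c t

theorem conn_surjective {N : Y.Modules} (θ : N ⟶ M₃)
    (h : Epi (((DF f).F 0).map θ ≫ (DF f).δ _ hS 0 1 rfl)) [IsAffine Z] [QuasiCompact f] [QuasiSeparated f]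
    (hN : Coh.IsQCoh N) (hM : Coh.IsQCoh M₁) (z : Γ(((DF f).F 1).obj M₁, (⊤ : Z.Opens))) :
    ∃ t : Γ(N, (⊤ : Y.Opens)), conn f hS (θ.app ⊤ t) = z := by
  have h1 := epi_dm f hS θ h
  have := enoughInjectives Y
  have q1 : Coh.IsQCoh (((DF f).F 1).obj M₁) := Groth.Agent.CohqA.RelCoh.isQCoh_Rpush f M₁ hM 1
  have q2 : Coh.IsQCoh ((Scheme.Modules.pushforward f).obj N) := by
    have := Groth.Agent.CohqA.RelCoh.isQCoh_Rpush f N hN 0
    exact Groth.Agent.Ega2.QCohLocal.isQCoh_of_iso ((zeta f).app N) this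
  obtain ⟨t, ht⟩ := Groth.Agent.PerfA.QCohEpi.app_surjective_of_epi
    ((Scheme.Modules.pushforward f).map θ ≫ dm f hS) (isAffineOpen_top Z) z
  exact ⟨t, ht⟩

end K977.KsSec
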