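import Groth.Agent.AbSch.K451.DetMat
import Groth.Agent.Krr.H487.LocBasisPull
import Groth.Agent.Picfga.LineCocycle
import Groth.Agent.Ega2.QCohLocal

/-!
# Roots of line bundles which are trivial on a first order thickening

* `isCoc_pull`: cocycles pull back;
* `exists_root`: `j : P ⟶ T` a closed immersion with ideal of square zero, `n` invertible on `T`, `c ∈ Pic T` with
  `j^* c = 1`: there is `c'` with `j^* c' = 1` and `c' ^ n = c`.
-/

set_option autoImplicit false
universe u

open CategoryTheory CategoryTheory.Limits AlgebraicGeometry Opposite TopologicalSpace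
open Groth.Agent.Sga67 Groth.Agent.Sga67.Sec Groth.Agent.Sga67.LocBasis Groth.Agent.Dual.H376.GlueGen
open Groth.Agent.Grpsch Groth.Agent.Krr.H487.LocBasisPull K451.Coc

namespace K977.Root

variable {P T : Scheme.{u}}

/-- Cocycles pull back. -/
theorem isCoc_pull (j : P ⟶ T) {ι : Type*} {B : ι → T.Opens} {c : PicGrp.Pic T} {t : ∀ i i', Γ(T, B i ⊓ B i')}
    (h : IsCoc B c t) :
    IsCoc (fun i => j ⁻¹ᵁ (B i)) (PicGrp.pull j c) (fun i i' => (j.app (B i ⊓ B i') (t i i') : Γ(P, j ⁻¹ᵁ (B i ⊓ B i')))) := by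
  obtain ⟨L, hL, l, rfl, hl, ht⟩ := h
  rw [PicGrp.pull_mk]
  refine isCoc_mk _ _ (fun i => pbS j L (l i)) (fun i => ?_) fun i i' => ?_
  · rw [isGen_iff]
    exact isLocBasis_pbS j ((isGen_iff _).1 (hl i))
  · have h1 := congrArg (pbS j L) (ht i i')
    rw [pbS_smul] at h1
    rw [← res_pbS j L (inf_le_left : B i ⊓ B i' ≤ B i) (j.preimage_mono inf_le_left),
      ← res_pbS j L (inf_le_right : B i ⊓ B i' ≤ B i') (j.preimage_mono inf_le_right)] at h1
    exact h1

/-- Sections vanishing on `P` have product zero. -/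
theorem mul_eq_zero_of_app (j : P ⟶ T) [IsClosedImmersion j] (hj : j.ker ^ 2 = ⊥) {W : T.Opens} {x y : Γ(T, W)}
    (hx : j.app W x = 0) (hy : j.app W y = 0) : x * y = 0 := by
  apply eqO_of_locally
  intro z hz
  obtain ⟨V₀, hV₀, hzV, hV⟩ := Opens.isBasis_iff_nbhd.mp T.isBasis_affineOpens hz
  let V : T.affineOpens := ⟨V₀, hV₀⟩
  refine ⟨V.1, hV, hzV, ?_⟩
  have key : ∀ w : Γ(T, W), j.app W w = 0 → resO T hV w ∈ j.ker.ideal V := by
    intro w hw
    rw [Scheme.Hom.ker_apply, RingHom.mem_ker]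
    have h1 : j.app V.1 (resO T hV w) = (P.presheaf.map (homOfLE (j.preimage_mono hV)).op) (j.app W w) :=
      congrArg (fun f => f w) (congrArg (fun f => f.hom) (j.naturality (homOfLE hV).op))
    rw [h1, hw, map_zero]
  rw [map_mul, map_zero]
  have h2 : resO T hV x * resO T hV y ∈ (j.ker ^ 2).ideal V := by
    rw [Scheme.IdealSheafData.ideal_pow, Pi.pow_apply, pow_two]
    exact Ideal.mul_mem_mul (key x hx) (key y hy)
  rw [hj] at h2
  exact h2

/-- A function whose restriction to `P` is a unit is a unit. -/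
theorem isUnit_of_app (j : P ⟶ T) [IsClosedImmersion j] (hj : j.ker ^ 2 = ⊥) {V : T.Opens} (hV : IsAffineOpen V)
    {a : Γ(T, V)} (h : IsUnit (j.app V a)) : IsUnit a := by
  obtain ⟨c, hc⟩ := h.exists_right_inv
  obtain ⟨b, rfl⟩ := j.app_surjective V hV c
  have h1 : j.app V (a * b - 1) = 0 := by
    rw [map_sub, map_mul, hc, map_one, sub_self]
  have h2 := mul_eq_zero_of_app j hj h1 h1
  refine IsUnit.of_mul_eq_one (b * (2 - a * b)) ?_
  linear_combination -h2

theorem isGen_smul {E : T.Modules} {U : T.Opens} {e : Sec E U} (he : IsGen e) {w : Γ(T, U)} (hw : IsUnit w) :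
    IsGen (w • e) := by
  intro V h
  have h1 : (fun a : Γ(T, V) => a • res E h (w • e)) =
      (fun a : Γ(T, V) => a • res E h e) ∘ (fun a => a * resO T h w) := by
    funext a
    rw [Function.comp_apply, res_smul, mul_smul]
  rw [h1]
  exact (he V h).comp ((hw.map (resO T h)).unit.mulRight_bijective)

/-- Generators of `N` restricting to `1`, given a trivialisation of `N` on `P`. -/
theorem exists_good_gen (j : P ⟶ T) [IsClosedImmersion j] (hj : j.ker ^ 2 = ⊥) {N : T.Modules}
    (hN : PicF.IsInvertible N) (g : (Scheme.Modules.pullback j).obj N ≅ Coh.structureModule P) (x : T) :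
    ∃ (V : T.affineOpens) (l : Sec N V.1), x ∈ V.1 ∧ IsGen l ∧
      appS g.hom (j ⁻¹ᵁ V.1) (pbS j N l) = one P (j ⁻¹ᵁ V.1) := by
  obtain ⟨V, -, b, hxV, hb⟩ := K451.DetMat.exists_affine_basis (Groth.Agent.Ega2.QCohLocal.isFinLocFreeOfRank_one_iff.2 hN)
    (U := ⊤) (x := x) trivial
  have hl₀ : IsGen (b 0) := by
    rw [isGen_iff]
    have : (fun _ : Fin 1 => b 0) = b := funext fun i => by rw [Subsingleton.elim i 0]
    rw [this]
    exact hb
  have hp : IsGen (E := (Scheme.Modules.pullback j).obj N) (pbS j N (b 0)) := by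
    rw [isGen_iff]
    exact isLocBasis_pbS j ((isGen_iff _).1 hl₀)
  have hq := hp.of_iso g
  obtain ⟨c, hc⟩ := (hq (j ⁻¹ᵁ V.1) le_rfl).2 (one P (j ⁻¹ᵁ V.1))
  have hc' : c • appS g.hom (j ⁻¹ᵁ V.1) (pbS j N (b 0)) = one P (j ⁻¹ᵁ V.1) := by
    refine Eq.trans ?_ hc
    change _ = c • res _ le_rfl _
    rw [res_self]
  have hcu : IsUnit c := by
    have h1 := congrArg (toO (X := P)) hc'
    rw [toO_smul, toO_one] at h1
    exact IsUnit.of_mul_eq_one _ h1
  obtain ⟨w, rfl⟩ := j.app_surjective V.1 V.2 c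
  refine ⟨V, w • b 0, hxV, isGen_smul hl₀ (isUnit_of_app j hj V.2 hcu), ?_⟩
  rw [pbS_smul, map_smul]
  exact hc'

theorem one_add_pow_of_sq {R : Type*} [CommRing R] {z : R} (hz : z * z = 0) (n : ℕ) : (1 + z) ^ n = 1 + n * z := by
  induction n with
  | zero => simp
  | succ n ih =>
    rw [pow_succ, ih]
    push_cast
    linear_combination (n : R) * hz

/-- **Roots.** -/
theorem exists_root (j : P ⟶ T) [IsClosedImmersion j] (hj : j.ker ^ 2 = ⊥) (n : ℕ) (hn : IsUnit (n : Γ(T, ⊤)))
    (c : PicGrp.Pic T) (hc : PicGrp.pull j c = 1) :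
    ∃ c' : PicGrp.Pic T, PicGrp.pull j c' = 1 ∧ c' ^ n = c := by
  obtain ⟨N, hN, rfl⟩ := PicGrp.exists_mk c
  rw [PicGrp.pull_mk, PicGrp.mk_eq_one_iff] at hc
  obtain ⟨g⟩ := hc
  choose V l hxV hl hgl using exists_good_gen j hj hN g
  have hB : ∀ x : T, ∃ i, x ∈ (V i).1 := fun x => ⟨x, hxV x⟩
  obtain ⟨ν, hν⟩ := hn.exists_right_inv
  -- the transition functions of `N`
  choose t ht using fun x y => (hl y ((V x).1 ⊓ (V y).1) inf_le_right).2 (res N inf_le_left (l x))
  have ht' : ∀ x y, res N (inf_le_left : (V x).1 ⊓ (V y).1 ≤ _) (l x) = t x y • res N inf_le_right (l y) :=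
    fun x y => (ht x y).symm
  have hcoc : IsCoc (fun x => (V x).1) (PicGrp.mk N hN) t := isCoc_mk _ hN l hl ht'
  -- they restrict to `1`
  have happ : ∀ x y, j.app ((V x).1 ⊓ (V y).1) (t x y) = 1 := by
    intro x y
    have h1 := congrArg (fun s => appS g.hom _ (pbS j N s)) (ht' x y)
    beta_reduce at h1
    rw [pbS_smul, map_smul, ← res_pbS j N (inf_le_left : (V x).1 ⊓ (V y).1 ≤ (V x).1) (j.preimage_mono inf_le_left),
      ← res_pbS j N (inf_le_right : (V x).1 ⊓ (V y).1 ≤ (V y).1) (j.preimage_mono inf_le_right),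
      appS_res, appS_res, hgl, hgl, res_one, res_one] at h1
    have h2 := congrArg (toO (X := P)) h1
    rw [toO_smul, toO_one, mul_one] at h2
    exact h2.symm
  let z : ∀ x y, Γ(T, (V x).1 ⊓ (V y).1) := fun x y => t x y - 1
  have hz0 : ∀ x y, j.app _ (z x y) = 0 := fun x y => by
    rw [map_sub, happ, map_one, sub_self]
  let v : ∀ x y, Γ(T, (V x).1 ⊓ (V y).1) := fun x y => 1 + resO T le_top ν * z x y
  have hz1 : ∀ (x y) (W : T.Opens) (h : W ≤ (V x).1 ⊓ (V y).1), j.app W (resO T h (z x y)) = 0 := by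
    intro x y W h
    have h1 : j.app W (resO T h (z x y)) = (P.presheaf.map (homOfLE (j.preimage_mono h)).op) (j.app _ (z x y)) :=
      congrArg (fun f => f (z x y)) (congrArg (fun f => f.hom) (j.naturality (homOfLE h).op))
    rw [h1, hz0, map_zero]
  obtain ⟨M, e, he, hv⟩ := Groth.Agent.Picfga.LineCocycle.exists_of_cocycle (fun x => (V x).1) v (by
    intro x
    have h1 : t x x = 1 := by
      refine (hl x ((V x).1 ⊓ (V x).1) inf_le_right).1 ?_
      change t x x • res N _ (l x) = (1 : Γ(T, (V x).1 ⊓ (V x).1)) • res N _ (l x)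
      rw [← ht' x x, one_smul]
    change 1 + resO T le_top ν * (t x x - 1) = 1
    rw [h1, sub_self, mul_zero, add_zero]) (by
    intro x y w W hx hy hw
    change resO T (le_inf hx hw) (v x w) = resO T (le_inf hx hy) (v x y) * resO T (le_inf hy hw) (v y w)
    have h1 : resO T (le_inf hx hw) (t x w) = resO T (le_inf hx hy) (t x y) * resO T (le_inf hy hw) (t y w) := by
      refine (hl w W hw).1 ?_
      change resO T (le_inf hx hw) (t x w) • res N hw (l w) =
        (resO T (le_inf hx hy) (t x y) * resO T (le_inf hy hw) (t y w)) • res N hw (l w)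
      have a1 := congrArg (res N (le_inf hx hw)) (ht' x w)
      rw [res_smul, res_res, res_res] at a1
      have a2 := congrArg (res N (le_inf hx hy)) (ht' x y)
      rw [res_smul, res_res, res_res] at a2
      have a3 := congrArg (res N (le_inf hy hw)) (ht' y w)
      rw [res_smul, res_res, res_res] at a3
      rw [mul_smul, ← a3, ← a2, ← a1]
    have h2 : resO T (le_inf hx hw) (z x w) = resO T (le_inf hx hy) (z x y) + resO T (le_inf hy hw) (z y w) := by
      have h3 := mul_eq_zero_of_app j hj (hz1 x y W (le_inf hx hy)) (hz1 y w W (le_inf hy hw))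
      simp only [z, map_sub, map_one] at h3 ⊢
      linear_combination h1 + h3
    have h3 := mul_eq_zero_of_app j hj (hz1 x y W (le_inf hx hy)) (hz1 y w W (le_inf hy hw))
    simp only [v, map_add, map_mul, map_one, resO_resO]
    rw [h2]
    linear_combination (-(resO T (le_top : W ≤ ⊤) ν) ^ 2) * h3)
  have hM : PicF.IsInvertible M := isInvertible_of_gens _ hB M e fun x => he x
  have hMc : IsCoc (fun x => (V x).1) (PicGrp.mk M hM) v := isCoc_mk _ hM e (fun x => he x) hv
  refine ⟨PicGrp.mk M hM, ?_, ?_⟩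
  · have h1 := isCoc_pull j hMc
    have h2 : (fun x y => (j.app ((V x).1 ⊓ (V y).1) (v x y) : Γ(P, j ⁻¹ᵁ ((V x).1 ⊓ (V y).1)))) =
        fun x y => (1 : Γ(P, j ⁻¹ᵁ ((V x).1 ⊓ (V y).1))) := by
      funext x y
      rw [map_add, map_mul, map_one, hz0, mul_zero, add_zero]
    rw [h2] at h1
    exact h1.eq (fun p => ⟨j p, hxV (j p)⟩) isCoc_one
  · refine (hMc.pow n).eq hB ?_
    have h2 : (fun x y => v x y ^ n) = t := by
      funext x y
      have h3 := mul_eq_zero_of_app j hj (hz0 x y) (hz0 x y)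
      have h4 : (n : Γ(T, (V x).1 ⊓ (V y).1)) * resO T le_top ν = 1 := by
        have h5 := congrArg (resO T (le_top : (V x).1 ⊓ (V y).1 ≤ ⊤)) hν
        rwa [map_mul, map_natCast, map_one] at h5
      change (1 + resO T le_top ν * z x y) ^ n = t x y
      rw [one_add_pow_of_sq (by linear_combination (resO T le_top ν) ^ 2 * h3), ← mul_assoc, h4, one_mul]
      simp only [z]
      ring
    rw [h2]
    exact hcoc

end K977.Root
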