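import Groth.Agent.BunMod.K977.Fam
import Groth.Agent.S1417
import Mathlib.LinearAlgebra.Matrix.GeneralLinearGroup.Defs

/-!
# The scheme of frames is smooth

`SmallLift k X Q`: admissible families lift over small extensions of Artinian local rings of finite type over `k`.
`smooth`: an atlas of the problem cut out by `Q` (lifting of families, orbits) is smooth over `k` if `SmallLift k X Q`.
-/

set_option autoImplicit false
universe u

open CategoryTheory CategoryTheory.Limits AlgebraicGeometry TopologicalSpace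

namespace K977.ZSmooth

open K140.BM K977.Fam

/-- Invertible matrices lift along surjective local homomorphisms. -/
theorem exists_gl_lift {R S : Type*} [CommRing R] [CommRing S] (f : R →+* S) (hf : Function.Surjective f)
    (hl : ∀ x, IsUnit (f x) → IsUnit x) {n : ℕ} (w : GL (Fin n) S) :
    ∃ w' : GL (Fin n) R, Matrix.GeneralLinearGroup.map f w' = w := by
  choose g hg using hf
  let U : Matrix (Fin n) (Fin n) R := fun i j => g ((w : Matrix (Fin n) (Fin n) S) i j)
  have hU : f.mapMatrix U = (w : Matrix (Fin n) (Fin n) S) := by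
    ext i j
    exact hg _
  have hdet : IsUnit U.det := by
    apply hl
    rw [RingHom.map_det, hU]
    exact (Matrix.isUnit_iff_isUnit_det _).1 w.isUnit
  refine ⟨Matrix.GeneralLinearGroup.mk'' U hdet, ?_⟩
  ext i j
  exact hg _

section

variable (k : Type u) [Field k] (X : Scheme.{u}) [X.Over (Spec (CommRingCat.of k))]
  (Q : ∀ T : Over (B0 k), (ModFun.modProb (st k X)).Fam T → Prop)

/-- The closed immersion of test schemes attached to a surjection. -/
noncomputable abbrev thk {k : Type u} [Field k] {B B' : Type u} [CommRing B] [CommRing B'] (φ : B' →+* B)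
    (β : Spec (CommRingCat.of B') ⟶ B0 k) :
    tpt (Spec.map (CommRingCat.ofHom φ) ≫ β) ⟶ tpt β := Over.homMk (Spec.map (CommRingCat.ofHom φ)) rfl

/-- Admissible families lift over small extensions of Artinian local rings of finite type over `k`. -/
def SmallLift : Prop :=
  ∀ (B B' : Type u) [CommRing B] [CommRing B'] [IsArtinianRing B] [IsArtinianRing B'] [IsLocalRing B] [IsLocalRing B']
    (φ : B' →+* B) (_ : Function.Surjective φ) (_ : IsLocalRing.maximalIdeal B' * RingHom.ker φ = ⊥)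
    (β : Spec (CommRingCat.of B') ⟶ B0 k) (_ : LocallyOfFiniteType β)
    (F : (PicF.XT (st k X) (tpt (Spec.map (CommRingCat.ofHom φ) ≫ β))).Modules) (_ : Q _ F),
    ∃ F' : (PicF.XT (st k X) (tpt β)).Modules, Q _ F' ∧ Nonempty (pl k X (thk φ β) F' ≅ F)

end

variable {k : Type u} [Field k] {X : Scheme.{u}} [X.Over (Spec (CommRingCat.of k))]
  {Q : ∀ T : Over (B0 k), (ModFun.modProb (st k X)).Fam T → Prop}

theorem appTop_surjective {B B' : Type u} [CommRing B] [CommRing B'] (φ : B' →+* B) (hφ : Function.Surjective φ) :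
    Function.Surjective (Spec.map (CommRingCat.ofHom φ)).appTop.hom := by
  intro y
  obtain ⟨x, hx⟩ := hφ ((Scheme.ΓSpecIso (CommRingCat.of B)).hom.hom y)
  refine ⟨(Scheme.ΓSpecIso (CommRingCat.of B')).inv.hom x, ?_⟩
  have h1 : (Scheme.ΓSpecIso (CommRingCat.of B')).inv ≫ (Spec.map (CommRingCat.ofHom φ)).appTop =
      CommRingCat.ofHom φ ≫ (Scheme.ΓSpecIso (CommRingCat.of B)).inv := by
    rw [Iso.inv_comp_eq, ← Category.assoc, Iso.eq_comp_inv]
    exact Scheme.ΓSpecIso_naturality _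
  have h2 := congrArg (fun g => g.hom x) h1
  refine (show _ = _ from h2).trans ?_
  change (Scheme.ΓSpecIso (CommRingCat.of B)).inv.hom (φ x) = y
  rw [hx]
  exact congrArg (fun g => g.hom y) (Scheme.ΓSpecIso (CommRingCat.of B)).hom_inv_id

theorem isUnit_of_appTop {B B' : Type u} [CommRing B] [CommRing B'] (φ : B' →+* B)
    (hl : ∀ x, IsUnit (φ x) → IsUnit x) (y : Γ(Spec (CommRingCat.of B'), ⊤))
    (h : IsUnit ((Spec.map (CommRingCat.ofHom φ)).appTop.hom y)) : IsUnit y := by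
  have h1 : IsUnit ((Scheme.ΓSpecIso (CommRingCat.of B)).hom.hom ((Spec.map (CommRingCat.ofHom φ)).appTop.hom y)) :=
    h.map _
  have h2 : (Scheme.ΓSpecIso (CommRingCat.of B)).hom.hom ((Spec.map (CommRingCat.ofHom φ)).appTop.hom y) =
      φ ((Scheme.ΓSpecIso (CommRingCat.of B')).hom.hom y) :=
    congrArg (fun g => g.hom y) (Scheme.ΓSpecIso_naturality (CommRingCat.ofHom φ))
  rw [h2] at h1
  have h3 := (hl _ h1).map (Scheme.ΓSpecIso (CommRingCat.of B')).inv.hom
  have h4 : (Scheme.ΓSpecIso (CommRingCat.of B')).inv.hom ((Scheme.ΓSpecIso (CommRingCat.of B')).hom.hom y) = y :=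
    congrArg (fun g => g.hom y) (Scheme.ΓSpecIso (CommRingCat.of B')).hom_inv_id
  rwa [h4] at h3

/-- A family over a local test scheme comes from a point of the atlas. -/
theorem exists_pt {Z : Over (B0 k)} {E : (PicF.XT (st k X) Z).Modules}
    (lift : ∀ (T : Over (B0 k)) (F : (PicF.XT (st k X) T).Modules), Q T F → ∀ t : T.left,
      ∃ (U : T.left.Opens) (c : opn T U ⟶ Z), t ∈ U ∧ Nonempty (pl k X c E ≅ pl k X (opi T U) F))
    {B : Type u} [CommRing B] [IsLocalRing B] (β : Spec (CommRingCat.of B) ⟶ B0 k)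
    (F : (PicF.XT (st k X) (tpt β)).Modules) (hF : Q _ F) :
    ∃ c : tpt β ⟶ Z, Nonempty (pl k X c E ≅ F) := by
  obtain ⟨U, c, hU, ⟨w⟩⟩ := lift (tpt β) F hF (IsLocalRing.closedPoint B)
  obtain rfl : U = ⊤ := by
    rw [eq_top_iff]
    intro x _
    exact (IsLocalRing.specializes_closedPoint x).mem_open U.2 hU
  let s : tpt β ⟶ opn (tpt β) ⊤ := Over.homMk (Scheme.topIso _).inv (by
    change (Scheme.topIso _).inv ≫ (⊤ : Scheme.Opens _).ι ≫ β = β
    rw [← Scheme.topIso_hom, Iso.inv_hom_id_assoc])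
  have hs : s ≫ opi (tpt β) ⊤ = 𝟙 _ := by
    ext
    change (Scheme.topIso _).inv ≫ (⊤ : Scheme.Opens _).ι = 𝟙 _
    rw [← Scheme.topIso_hom, Iso.inv_hom_id]
  exact ⟨s ≫ c, ⟨(plComp s c E).symm ≪≫ (Scheme.Modules.pullback (PicF.XTmap (st k X) s)).mapIso w ≪≫
    plComp s (opi (tpt β) ⊤) F ≪≫ (Scheme.Modules.pullbackCongr (by rw [hs, XTmap_id])).app F ≪≫
    (Scheme.Modules.pullbackId _).app F⟩⟩

/-- **Smoothness of the scheme of frames.** -/
theorem smooth {Z : Over (B0 k)} {E : (PicF.XT (st k X) Z).Modules} (hft : LocallyOfFiniteType Z.hom)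
    (lift : ∀ (T : Over (B0 k)) (F : (PicF.XT (st k X) T).Modules), Q T F → ∀ t : T.left,
      ∃ (U : T.left.Opens) (c : opn T U ⟶ Z), t ∈ U ∧ Nonempty (pl k X c E ≅ pl k X (opi T U) F))
    {a b : ℕ}
    (act : ∀ {T : Over (B0 k)}, GL (Fin b) Γ(T.left, ⊤) → GL (Fin a) Γ(T.left, ⊤) → (T ⟶ Z) → (T ⟶ Z))
    (act_nat : ∀ {T T' : Over (B0 k)} (g : T' ⟶ T) (u : GL (Fin b) Γ(T.left, ⊤)) (v : GL (Fin a) Γ(T.left, ⊤))
      (c : T ⟶ Z), g ≫ act u v c = act (Matrix.GeneralLinearGroup.map g.left.appTop.hom u)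
        (Matrix.GeneralLinearGroup.map g.left.appTop.hom v) (g ≫ c))
    (orb : ∀ {T : Over (B0 k)} (c c' : T ⟶ Z), Nonempty (pl k X c E ≅ pl k X c' E) →
      ∃ (u : GL (Fin b) Γ(T.left, ⊤)) (v : GL (Fin a) Γ(T.left, ⊤)), c' = act u v c)
    (hQ : ∀ (T : Over (B0 k)) (c : T ⟶ Z), Q T (pl k X c E)) (hL : SmallLift k X Q) : Smooth Z.hom := by
  refine Groth.Agent.S1417.smooth_of_lifting Z.hom ?_
  intro B B' _ _ _ _ _ _ φ ε hφ hker hε α β hβ hcomp
  have hm : IsLocalRing.maximalIdeal B' * RingHom.ker φ = ⊥ := by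
    rw [hker, eq_bot_iff, Ideal.mul_le]
    intro r hr s hs
    obtain ⟨t, rfl⟩ := Ideal.mem_span_singleton'.1 hs
    rw [Ideal.mem_bot, mul_left_comm, mul_comm r ε, hε r hr, mul_zero]
  let i := thk φ β
  let c : tpt (Spec.map (CommRingCat.ofHom φ) ≫ β) ⟶ Z := Over.homMk α hcomp.symm
  obtain ⟨F', hF', ⟨e⟩⟩ := hL B B' φ hφ hm β hβ _ (hQ _ c)
  obtain ⟨c', ⟨e'⟩⟩ := exists_pt lift β F' hF'
  obtain ⟨w, v, hc⟩ := orb (i ≫ c') c ⟨(plComp i c' E).symm ≪≫
    (Scheme.Modules.pullback (PicF.XTmap (st k X) i)).mapIso e' ≪≫ e⟩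
  have hl : ∀ x, IsUnit (φ x) → IsUnit x := by
    intro x hx
    by_contra h
    have h1 : x ∈ IsLocalRing.maximalIdeal B' := (IsLocalRing.mem_maximalIdeal x).2 h
    obtain ⟨z, hz⟩ := hx.exists_right_inv
    obtain ⟨z', rfl⟩ := hφ z
    have h2 : x * z' - 1 ∈ RingHom.ker φ := by
      rw [RingHom.mem_ker, map_sub, map_mul, hz, map_one, sub_self]
    have h3 : x * z' - 1 ∈ IsLocalRing.maximalIdeal B' :=
      (IsLocalRing.le_maximalIdeal (RingHom.ker_ne_top φ)) h2
    have h4 : (1 : B') ∈ IsLocalRing.maximalIdeal B' := by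
      have := (IsLocalRing.maximalIdeal B').sub_mem ((IsLocalRing.maximalIdeal B').mul_mem_right z' h1) h3
      simp at this
    exact (IsLocalRing.maximalIdeal.isMaximal B').ne_top ((Ideal.eq_top_iff_one _).2 h4)
  obtain ⟨w', hw'⟩ := exists_gl_lift i.left.appTop.hom (appTop_surjective φ hφ) (isUnit_of_appTop φ hl) w
  obtain ⟨v', hv'⟩ := exists_gl_lift i.left.appTop.hom (appTop_surjective φ hφ) (isUnit_of_appTop φ hl) v
  refine ⟨(act w' v' c').left, ?_, Over.w _⟩
  have h5 : i ≫ act w' v' c' = c := by rw [act_nat, hw', hv', hc]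
  exact congrArg (fun g => g.left) h5

/-- Smoothness for `AtlasC`. -/
theorem atlasC (A : AtlasC k X Q) (hQ : ∀ (T : Over (B0 k)) (c : T ⟶ A.Z), Q T (pl k X c A.E))
    (hL : SmallLift k X Q) : Smooth A.Z.hom :=
  smooth A.ft A.lift A.act A.act_nat A.orb hQ hL

/-- Smoothness for `AtlasG`. -/
theorem atlasG (A : AtlasG k X Q) (hQ : ∀ (T : Over (B0 k)) (c : T ⟶ A.Z), Q T (pl k X c A.E))
    (hL : SmallLift k X Q) : Smooth A.Z.hom :=
  smooth A.ft A.lift A.act A.act_nat A.orb hQ hL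

end K977.ZSmooth
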